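import Cfsg.Agent.Lib.OrthSubfield.Main
import Cfsg.Agent.Lib.Forms.Bridge
import Cfsg.Prelude.Def_GeometricClasses

/-!
Maximality of the subfield subgroup of prime degree in the commutator group of an orthogonal group.
-/

set_option autoImplicit false

namespace Cfsg.Agent.Lib.OrthSubfield

open Matrix QuadraticMap Cfsg.Agent.Lib Cfsg.Agent.Lib.SubfieldMax

variable {ι : Type} [Fintype ι] [DecidableEq ι] {F : Type*} [Field F]

theorem omegaGL_eq_commutator (Q : (ι → F) → F) :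
    Cfsg.Geo.omegaGL Q = ⁅Cfsg.isometryGroup F Q, Cfsg.isometryGroup F Q⁆ := by
  show (commutator (Cfsg.isometryGroup F Q)).map (Cfsg.isometryGroup F Q).subtype = _
  rw [commutator_def, Subgroup.map_commutator, ← MonoidHom.range_eq_map, Subgroup.range_subtype]

theorem omegaGL_smul (Q : (ι → F) → F) {ζ : F} (hζ : ζ ≠ 0) :
    Cfsg.Geo.omegaGL (fun v => ζ * Q v) = Cfsg.Geo.omegaGL Q := by
  have e : Cfsg.isometryGroup F (fun v => ζ * Q v) = Cfsg.isometryGroup F Q := by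
    ext g
    rw [Forms.mem_isometryGroup_iff, Forms.mem_isometryGroup_iff]
    exact forall_congr' fun v => mul_right_inj' hζ
  rw [omegaGL_eq_commutator, omegaGL_eq_commutator, e]

theorem isMaximalIn_subfield [Finite F] {Q : QuadraticForm F (ι → F)}
    (hQ : ∀ z, (∀ w, polar Q z w = 0) → z = 0) (hn : 13 ≤ Fintype.card ι) (K : Subfield F) (r : ℕ) (hr : r.Prime)
    (hcard : Nat.card F = Nat.card K ^ r) (P : GL ι F) (hP : ∀ u : ι → K, Q (ratVec K P u) ∈ K) :
    Cfsg.Geo.IsMaximalIn (Cfsg.Geo.omegaGL ⇑Q) (Cfsg.Geo.subfieldSubgroup K P ⊓ Cfsg.Geo.omegaGL ⇑Q) := by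
  classical
  have D : OData Q K P := ⟨hQ, hP⟩
  set Φ := Forms.glEquiv ι F with hΦ
  have hiff : ∀ A : GL ι F, Φ A ∈ Classical.isoGroup ⇑Q ↔ A ∈ Cfsg.isometryGroup F ⇑Q := fun A => by
    rw [Forms.mem_isometryGroup_iff]; rfl
  have hcomm : ∀ X Y : (ι → F) ≃ₗ[F] (ι → F), X ∈ Classical.isoGroup ⇑Q → Y ∈ Classical.isoGroup ⇑Q →
      Φ.symm (X * Y * X⁻¹ * Y⁻¹) ∈ Cfsg.Geo.omegaGL ⇑Q := by
    intro X Y hX hY
    rw [omegaGL_eq_commutator, map_mul, map_mul, map_mul, map_inv, map_inv]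
    exact Subgroup.commutator_mem_commutator ((hiff _).mp (by rwa [Φ.apply_symm_apply]))
      ((hiff _).mp (by rwa [Φ.apply_symm_apply]))
  refine ⟨lt_of_le_of_ne inf_le_right fun heq => ?_, fun M hHM hMG => ?_⟩
  · obtain ⟨a, -, ha, haS⟩ := D.exists_sing_perp_notMem (![] : Fin 0 → ι → K) ⊥ (by omega)
      (by rw [finrank_bot]; omega)
    have ha0 := OData.ne_zero_of_notMem haS
    obtain ⟨b, hb, hbb, hbS⟩ := D.exists_sing_perp_notMem ![a] (Submodule.span K {a}) (by omega)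
      (by rw [finrank_span_singleton ha0]; omega)
    obtain ⟨k, hk⟩ : ∃ k : F, k ∉ K := by
      by_contra hall
      push Not at hall
      have e : Nat.card K = Nat.card F := Nat.card_congr (Equiv.subtypeUnivEquiv hall)
      rw [e] at hcard
      exact hr.one_lt.ne' (Nat.pow_right_injective (Finite.one_lt_card (α := F))
        (hcard.symm.trans (pow_one _).symm))
    obtain ⟨X, Y, hX, hY, hg⟩ := D.exists_root_commutator hn ha hbb ((D.rp_comm a b).trans (hb 0)) k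
    obtain ⟨l, hl, h⟩ := exists_scale_of_mem (heq.ge (hcomm X Y hX hY)).1
    refine D.not_stab_root (OData.indep_two ha0 hbS) ha hbb ((D.rp_comm a b).trans (hb 0)) hk hg
      ⟨l, hl, fun u => ?_⟩
    obtain ⟨v, hv⟩ := h u
    refine ⟨v, ?_⟩
    rw [← Φ.apply_symm_apply (X * Y * X⁻¹ * Y⁻¹)]
    exact hv
  by_cases hM : M ≤ Cfsg.Geo.subfieldSubgroup K P
  · exact Or.inl (le_antisymm (le_inf hM hMG) hHM)
  right
  obtain ⟨A, hAM, hA⟩ := SetLike.not_le_iff_exists.mp hM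
  have hMI : M ≤ Cfsg.isometryGroup F ⇑Q := hMG.trans (Subgroup.map_subtype_le _)
  set M' := M.map Φ.toMonoidHom with hM'
  have hO : Over D M' := by
    refine ⟨?_, fun a b ha hb hab => ?_⟩
    · rintro _ ⟨B, hB, rfl⟩
      exact (hiff B).mpr (hMI hB)
    · obtain ⟨X, Y, hX, hY, hg⟩ := D.exists_root_commutator hn ha hb hab 1
      refine ⟨_, ⟨Φ.symm (X * Y * X⁻¹ * Y⁻¹), hHM ⟨mem_subfield_of_maps one_ne_zero fun u => ?_,
        hcomm X Y hX hY⟩, Φ.apply_symm_apply _⟩, fun z => by simpa using hg z⟩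
      refine ⟨u + D.rp u b • a - D.rp u a • b - (D.rQ b * D.rp u a) • a, ?_⟩
      rw [one_smul, ratVec_sub, ratVec_sub, ratVec_add, ratVec_smul, ratVec_smul, ratVec_smul, hΦ,
        Forms.glEquiv_symm_mulVec, hg, one_smul, MulMemClass.coe_mul, D.coe_rp, D.coe_rp, D.coe_rQ]
  have hgK : ¬ ∃ l : F, l ≠ 0 ∧ ∀ u : ι → K, ∃ v : ι → K, Φ A (ratVec K P u) = l • ratVec K P v := by
    rintro ⟨l, hl, h⟩
    exact hA (mem_subfield_of_maps hl h)
  have hgood := D.good_of_not_stab hO hn r hr hcard (Subgroup.mem_map_of_mem _ hAM) hgK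
  refine le_antisymm hMG ?_
  rw [omegaGL_eq_commutator, Subgroup.commutator_le]
  intro a ha b hb
  obtain ⟨C, hC, hCe⟩ := D.commutator_mem (M := M') hn hgood ((hiff a).mpr ha) ((hiff b).mpr hb)
  rw [MulEquiv.coe_toMonoidHom, ← map_inv, ← map_inv, ← map_mul, ← map_mul, ← map_mul] at hCe
  rw [commutatorElement_def, ← Φ.injective hCe]
  exact hC

end Cfsg.Agent.Lib.OrthSubfield
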