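import Cfsg.Agent.Lib.OrthSubfield.Tools

/-!
A root group orthogonal to a rational singular vector: either it is rational or it gives a new scalar.
-/

set_option autoImplicit false

namespace Cfsg.Agent.Lib.OrthSubfield

open Matrix QuadraticMap Cfsg.Agent.Lib Cfsg.Agent.Lib.SubfieldMax

variable {ι : Type} [Fintype ι] [DecidableEq ι] {F : Type*} [Field F] {Q : QuadraticForm F (ι → F)}
  {K : Subfield F} {P : GL ι F} {M : Subgroup ((ι → F) ≃ₗ[F] (ι → F))}

local notation "Vs" => (ι → F)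
local notation "Ks" => (ι → K)
local notation "ρR" => ratVec K P

/-- The products of `w ∧ y` with a pair of vectors. -/
def pi2 (Q : QuadraticForm F (ι → F)) (w y u v : ι → F) : F :=
  polar Q w u * polar Q y v - polar Q y u * polar Q w v

/-- An orthogonal pair of singular vectors whose root element is in the subgroup. -/
structure RootPair (Q : QuadraticForm F (ι → F)) (M : Subgroup ((ι → F) ≃ₗ[F] (ι → F))) (w y : ι → F) : Prop where
  sing₁ : Q w = 0
  sing₂ : Q y = 0
  perp : polar Q w y = 0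
  root : HasRoot Q M w y

/-- The plane element `w ∧ y` is rational. -/
def IsRatPair (Q : QuadraticForm F (ι → F)) (K : Subfield F) (P : GL ι F) (w y : ι → F) : Prop :=
  ∀ u v : ι → K, pi2 Q w y (ratVec K P u) (ratVec K P v) ∈ K

theorem pi2_add_left (w y u u' v : Vs) : pi2 Q w y (u + u') v = pi2 Q w y u v + pi2 Q w y u' v := by
  simp only [pi2, polar_add_right]; ring

theorem pi2_add_right (w y u v v' : Vs) : pi2 Q w y u (v + v') = pi2 Q w y u v + pi2 Q w y u v' := by
  simp only [pi2, polar_add_right]; ring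

theorem pi2_smul_left (w y u v : Vs) (c : F) : pi2 Q w y (c • u) v = c * pi2 Q w y u v := by
  simp only [pi2, polar_smul_right, smul_eq_mul]; ring

theorem pi2_comm (w y u v : Vs) : pi2 Q w y u v = -pi2 Q w y v u := by
  simp only [pi2]; ring

namespace OData

variable [Finite F] (D : OData Q K P)
include D

theorem good_of_pi (hO : Over D M) (hn : 13 ≤ Fintype.card ι) {w y : Vs} (hp : RootPair Q M w y) {t : Ks}
    (ht : D.rQ t = 0) (ht0 : t ≠ 0) (htw : polar Q w (ρR t) = 0) (hty : polar Q y (ρR t) = 0) {s a : Ks}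
    (hs : D.rQ s = 0) (ha : D.rQ a = 0) (hst : D.rp s t = 0) (hat : D.rp a t = 0) :
    Good D M (pi2 Q w y (ρR s) (ρR a)) := by
  obtain ⟨hw, hy, hwy, hroot⟩ := hp
  have htt : Q (ρR t) = 0 := D.Q_rat_zero ht
  have hss : Q (ρR s) = 0 := D.Q_rat_zero hs
  obtain ⟨e, he, ee⟩ := hO.rat t s ht hs (by rw [D.rp_comm]; exact hst)
  set κ := polar Q w (ρR s) with hκ
  set μ := polar Q y (ρR s) with hμ
  have ew : e w = w + κ • ρR t := by rw [ee, htw, hss]; module
  have ey : e y = y + μ • ρR t := by rw [ee, hty, hss]; module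
  obtain ⟨gA, hgA, eA⟩ := hasRoot_conj hO.iso he hroot
  obtain ⟨gB, hgB, eB⟩ := hasRoot_neg hw hwy hroot
  set z := κ • y - μ • w with hz
  have hQey : Q (y + μ • ρR t) = 0 := by
    rw [QuadraticMap.map_add (⇑Q), QuadraticMap.map_smul, polar_smul_right, hy, htt, hty]; simp
  have hQz : Q z = 0 := by
    rw [hz, sub_eq_add_neg, ← neg_smul, QuadraticMap.map_add (⇑Q), QuadraticMap.map_smul, QuadraticMap.map_smul,
      polar_smul_left, polar_smul_right, polar_comm (⇑Q) y w, hwy, hw, hy]; simp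
  have htz : polar Q (ρR t) z = 0 := by
    rw [hz, polar_sub_right, polar_smul_right, polar_smul_right, polar_comm (⇑Q) (ρR t) y, hty,
      polar_comm (⇑Q) (ρR t) w, htw]; simp
  have hroot' : HasRoot Q M (ρR t) z := by
    refine ⟨gA * gB, M.mul_mem hgA hgB, fun x => ?_⟩
    rw [LinearEquiv.mul_apply, eA, ew, ey, eB, hQz]
    simp only [hQey, QuadraticMap.map_neg, hy, hQz, hz, zero_mul, zero_smul, sub_zero, polar_add_left,
      polar_add_right, polar_sub_left, polar_sub_right, polar_smul_left, polar_smul_right, polar_neg_left,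
      polar_neg_right, polar_self, hw, htt, hwy, polar_comm (⇑Q) y w, htw, hty, smul_zero, smul_eq_mul]
    match_scalars <;> ring
  obtain ⟨c, hct, hc, hcS⟩ := D.exists_sing_perp_notMem ![t] (Submodule.span K {t}) (by omega)
    (by rw [finrank_span_singleton ht0]; omega)
  have h := D.spread hO hn ht htz hroot' ha hc hat (hct 0)
  have hval : polar Q z (ρR a) = pi2 Q w y (ρR s) (ρR a) := by
    rw [hz, polar_sub_left, polar_smul_left, polar_smul_left, pi2, hκ, hμ, smul_eq_mul, smul_eq_mul]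
  rw [hval] at h
  exact D.good_of_pair hO hn (OData.indep_two ht0 hcS) ht hc (by rw [D.rp_comm]; exact hct 0) h

/-- A vector with rational products on a hyperplane is represented there by a rational vector. -/
theorem exists_rep_on_perp {t : Ks} (ht0 : t ≠ 0) {v : Vs}
    (hv : ∀ u : Ks, D.rp u t = 0 → polar Q v (ρR u) ∈ K) :
    ∃ b : Ks, ∀ u : Ks, D.rp u t = 0 → polar Q v (ρR u) = (D.rp u b : F) := by
  obtain ⟨r₀, hr₀⟩ := D.exists_dual (u := ![t]) (linearIndependent_unique_iff.mpr (by simpa using ht0)) ![1]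
  have hr₀' : D.rp r₀ t = 1 := hr₀ 0
  set pr : Ks → Ks := fun u => u - D.rp u t • r₀ with hpr
  have hpr0 : ∀ u, D.rp (pr u) t = 0 := fun u => by
    rw [hpr, D.rp_sub_left, D.rp_smul_left, hr₀', mul_one, sub_self]
  let φ : Ks →ₗ[K] K :=
    { toFun := fun u => ⟨_, hv _ (hpr0 u)⟩
      map_add' := fun u u' => Subtype.ext (by
        show polar Q v (ρR (pr (u + u'))) = _ + _
        rw [show pr (u + u') = pr u + pr u' by simp [hpr, D.rp_add_left, add_smul]; abel, ratVec_add,
          polar_add_right])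
      map_smul' := fun c u => Subtype.ext (by
        show polar Q v (ρR (pr (c • u))) = (c : F) * _
        rw [show pr (c • u) = c • pr u by simp [hpr, D.rp_smul_left, smul_sub, smul_smul], ratVec_smul,
          polar_smul_right, smul_eq_mul]) }
  refine ⟨(LinearMap.BilinForm.toDual D.rBil D.rBil_nondeg).symm φ, fun u hu => ?_⟩
  rw [D.rp_comm, ← D.rBil_apply, LinearMap.BilinForm.apply_toDual_symm_apply]
  show _ = polar Q v (ρR (pr u))
  rw [show pr u = u by simp [hpr, hu]]

theorem ratPair_of_three {w y : Vs} {t : Fin 3 → Ks} (hli : LinearIndependent K t)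
    (hK : ∀ k u v, D.rp u (t k) = 0 → D.rp v (t k) = 0 → pi2 Q w y (ρR u) (ρR v) ∈ K) : IsRatPair Q K P w y := by
  obtain ⟨r₀, hr₀⟩ := D.exists_dual hli ![1, 0, 0]
  obtain ⟨r₁, hr₁⟩ := D.exists_dual hli ![0, 1, 0]
  obtain ⟨r₂, hr₂⟩ := D.exists_dual hli ![0, 0, 1]
  let Fine : Ks → Prop := fun x => ∃ i, ∀ k, k ≠ i → D.rp x (t k) = 0
  have hFine : ∀ x x', Fine x → Fine x' → pi2 Q w y (ρR x) (ρR x') ∈ K := by
    rintro x x' ⟨i, hi⟩ ⟨j, hj⟩
    obtain ⟨k, hki, hkj⟩ : ∃ k : Fin 3, k ≠ i ∧ k ≠ j := by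
      fin_cases i <;> fin_cases j <;> decide
    exact hK k x x' (hi k hki) (hj k hkj)
  have hsum : ∀ u, ∃ f : Fin 4 → Ks, (∀ m, Fine (f m)) ∧ u = f 0 + f 1 + f 2 + f 3 := by
    intro u
    refine ⟨![u - D.rp u (t 0) • r₀ - D.rp u (t 1) • r₁ - D.rp u (t 2) • r₂, D.rp u (t 0) • r₀,
      D.rp u (t 1) • r₁, D.rp u (t 2) • r₂], fun m => ?_, by simp; abel⟩
    fin_cases m
    · exact ⟨0, fun k _ => by fin_cases k <;> simp [D.rp_sub_left, D.rp_smul_left, hr₀, hr₁, hr₂]⟩
    · exact ⟨0, fun k hk => by fin_cases k <;> simp [D.rp_smul_left, hr₀] at hk ⊢⟩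
    · exact ⟨1, fun k hk => by fin_cases k <;> simp [D.rp_smul_left, hr₁] at hk ⊢⟩
    · exact ⟨2, fun k hk => by fin_cases k <;> simp [D.rp_smul_left, hr₂] at hk ⊢⟩
  intro u v
  obtain ⟨f, hf, rfl⟩ := hsum u
  obtain ⟨g, hg, rfl⟩ := hsum v
  simp only [ratVec_add, pi2_add_left, pi2_add_right]
  repeat' apply K.add_mem
  all_goals exact hFine _ _ (hf _) (hg _)

/-- A non-rational root group orthogonal to three rational singular vectors gives a new scalar. -/
theorem ratPair_of_hno (hO : Over D M) (hn : 13 ≤ Fintype.card ι) (hno : ∀ c, Good D M c → c ∈ K) {w y : Vs}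
    (hp : RootPair Q M w y) {t : Ks} (ht : D.rQ t = 0) (ht0 : t ≠ 0) (htw : polar Q w (ρR t) = 0)
    (hty : polar Q y (ρR t) = 0) :
    ∀ u v, D.rp u t = 0 → D.rp v t = 0 → pi2 Q w y (ρR u) (ρR v) ∈ K := by
  have hiso : ∀ s a, D.rQ s = 0 → D.rQ a = 0 → D.rp s t = 0 → D.rp a t = 0 → pi2 Q w y (ρR s) (ρR a) ∈ K :=
    fun s a h1 h2 h3 h4 => hno _ (D.good_of_pi hO hn hp ht ht0 htw hty h1 h2 h3 h4)
  have half : ∀ a, D.rQ a = 0 → D.rp a t = 0 → ∀ u, D.rp u t = 0 → pi2 Q w y (ρR u) (ρR a) ∈ K := by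
    intro a ha hat u hu
    let S : Submodule K Ks :=
      { carrier := {u | pi2 Q w y (ρR u) (ρR a) ∈ K}
        add_mem' := fun {x x'} hx hx' => by
          simp only [Set.mem_setOf_eq] at hx hx' ⊢
          rw [ratVec_add, pi2_add_left]; exact K.add_mem hx hx'
        zero_mem' := by
          simp only [Set.mem_setOf_eq, ratVec_zero, pi2, polar_zero_right, zero_mul, sub_self]
          exact K.zero_mem
        smul_mem' := fun k x hx => by
          simp only [Set.mem_setOf_eq] at hx ⊢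
          rw [ratVec_smul, pi2_smul_left]; exact K.mul_mem k.2 hx }
    exact D.sing_perp_mem ![t] (by omega) S (fun x hx hxx => hiso x a hxx ha (hx 0) hat)
      (fun i => by fin_cases i; exact hu)
  intro u v hu hv
  let S : Submodule K Ks :=
    { carrier := {v | pi2 Q w y (ρR v) (ρR u) ∈ K}
      add_mem' := fun {x x'} hx hx' => by
        simp only [Set.mem_setOf_eq] at hx hx' ⊢
        rw [ratVec_add, pi2_add_left]; exact K.add_mem hx hx'
      zero_mem' := by
        simp only [Set.mem_setOf_eq, ratVec_zero, pi2, polar_zero_right, zero_mul, sub_self]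
        exact K.zero_mem
      smul_mem' := fun k x hx => by
        simp only [Set.mem_setOf_eq] at hx ⊢
        rw [ratVec_smul, pi2_smul_left]; exact K.mul_mem k.2 hx }
  rw [pi2_comm]
  refine K.neg_mem (D.sing_perp_mem ![t] (by omega) S (fun x hx hxx => ?_) (fun i => by fin_cases i; exact hv))
  show pi2 Q w y (ρR x) (ρR u) ∈ K
  rw [pi2_comm]
  exact K.neg_mem (half x hxx (hx 0) u hu)

theorem exists_three (hn : 13 ≤ Fintype.card ι) (t b₁ b₂ : Ks) :
    ∃ t' : Fin 3 → Ks, LinearIndependent K t' ∧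
      ∀ i, D.rQ (t' i) = 0 ∧ D.rp (t' i) t = 0 ∧ D.rp (t' i) b₁ = 0 ∧ D.rp (t' i) b₂ = 0 := by
  obtain ⟨x, hx, hxx, hxS⟩ := D.exists_sing_perp_notMem ![t, b₁, b₂] ⊥ (by omega) (by rw [finrank_bot]; omega)
  have hx0 := OData.ne_zero_of_notMem hxS
  obtain ⟨z, hz, hzz, hzS⟩ := D.exists_sing_perp_notMem ![t, b₁, b₂] (Submodule.span K {x}) (by omega)
    (by rw [finrank_span_singleton hx0]; omega)
  obtain ⟨v, hv, hvv, hvS⟩ := D.exists_sing_perp_notMem ![t, b₁, b₂] (Submodule.span K (Set.range ![x, z]))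
    (by omega) (by have := OData.finrank_span_fin_le (K := K) ![x, z]; omega)
  have hv' : v ∉ Submodule.span K {x, z} := by
    rwa [Matrix.range_cons, Matrix.range_cons, Matrix.range_empty, Set.union_empty, ← Set.insert_eq] at hvS
  refine ⟨![v, x, z], OData.indep_three (OData.indep_two hx0 hzS) hv', fun i => ?_⟩
  fin_cases i
  · exact ⟨hvv, hv 0, hv 1, hv 2⟩
  · exact ⟨hxx, hx 0, hx 1, hx 2⟩
  · exact ⟨hzz, hz 0, hz 1, hz 2⟩

/-- Without new scalars, a root group orthogonal to a rational singular vector is rational. -/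
theorem isRatPair (hO : Over D M) (hn : 13 ≤ Fintype.card ι) (hno : ∀ c, Good D M c → c ∈ K) {w y : Vs}
    (hp : RootPair Q M w y) {t : Ks} (ht : D.rQ t = 0) (ht0 : t ≠ 0) (htw : polar Q w (ρR t) = 0)
    (hty : polar Q y (ρR t) = 0) : IsRatPair Q K P w y := by
  by_cases hdep : ∀ u v : Ks, pi2 Q w y (ρR u) (ρR v) = 0
  · exact fun u v => by rw [hdep]; exact K.zero_mem
  suffices hk : ∃ b₁ b₂ : Ks, ∀ u, D.rp u t = 0 → D.rp u b₁ = 0 → D.rp u b₂ = 0 →
      polar Q w (ρR u) = 0 ∧ polar Q y (ρR u) = 0 by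
    obtain ⟨b₁, b₂, hb⟩ := hk
    obtain ⟨t', hli, ht'⟩ := D.exists_three hn t b₁ b₂
    refine D.ratPair_of_three hli fun k => ?_
    obtain ⟨h0, h1, h2, h3⟩ := ht' k
    exact D.ratPair_of_hno hO hn hno hp h0 (hli.ne_zero k) (hb _ h1 h2 h3).1 (hb _ h1 h2 h3).2
  have hK := D.ratPair_of_hno hO hn hno hp ht ht0 htw hty
  by_cases hnz : ∃ s a, D.rp s t = 0 ∧ D.rp a t = 0 ∧ pi2 Q w y (ρR s) (ρR a) ≠ 0
  · obtain ⟨s, a, hs, ha, hne⟩ := hnz
    have r1 : ∀ u, polar Q (polar Q y (ρR a) • w - polar Q w (ρR a) • y) (ρR u) = pi2 Q w y (ρR u) (ρR a) :=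
      fun u => by rw [polar_sub_left, polar_smul_left, polar_smul_left, pi2, smul_eq_mul, smul_eq_mul]; ring
    obtain ⟨b₁, hb₁⟩ := D.exists_rep_on_perp ht0 (v := polar Q y (ρR a) • w - polar Q w (ρR a) • y)
      fun u hu => by rw [r1]; exact hK u a hu ha
    have r2 : ∀ u, polar Q (polar Q w (ρR s) • y - polar Q y (ρR s) • w) (ρR u) = pi2 Q w y (ρR s) (ρR u) :=
      fun u => by rw [polar_sub_left, polar_smul_left, polar_smul_left, pi2, smul_eq_mul, smul_eq_mul]
    obtain ⟨b₂, hb₂⟩ := D.exists_rep_on_perp ht0 (v := polar Q w (ρR s) • y - polar Q y (ρR s) • w)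
      fun u hu => by rw [r2]; exact hK s u hs hu
    refine ⟨b₁, b₂, fun u hu h1 h2 => ?_⟩
    have e1 := hb₁ u hu
    have e2 := hb₂ u hu
    rw [r1, h1, ZeroMemClass.coe_zero] at e1
    rw [r2, h2, ZeroMemClass.coe_zero] at e2
    constructor
    · refine (mul_eq_zero.mp (?_ : pi2 Q w y (ρR s) (ρR a) * polar Q w (ρR u) = 0)).resolve_left hne
      simp only [pi2] at e1 e2 ⊢
      linear_combination polar Q w (ρR s) * e1 + polar Q w (ρR a) * e2
    · refine (mul_eq_zero.mp (?_ : pi2 Q w y (ρR s) (ρR a) * polar Q y (ρR u) = 0)).resolve_left hne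
      simp only [pi2] at e1 e2 ⊢
      linear_combination polar Q y (ρR s) * e1 + polar Q y (ρR a) * e2
  push Not at hnz
  by_cases hall : ∀ u, D.rp u t = 0 → polar Q w (ρR u) = 0 ∧ polar Q y (ρR u) = 0
  · exact ⟨0, 0, fun u hu _ _ => hall u hu⟩
  obtain ⟨u₀, hu₀, hne⟩ : ∃ u₀, D.rp u₀ t = 0 ∧ ¬ (polar Q w (ρR u₀) = 0 ∧ polar Q y (ρR u₀) = 0) := by
    push Not at hall
    obtain ⟨u, hu, h⟩ := hall
    exact ⟨u, hu, fun h' => h h'.1 h'.2⟩
  set α := polar Q w (ρR u₀) with hα
  set β := polar Q y (ρR u₀) with hβ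
  set v := β • w - α • y with hv
  obtain ⟨r₀, hr₀⟩ := D.exists_dual (u := ![t]) (linearIndependent_unique_iff.mpr (by simpa using ht0)) ![1]
  have hr₀' : D.rp r₀ t = 1 := hr₀ 0
  set ν := polar Q v (ρR r₀) with hν
  have hvt : v = ν • ρR t := by
    refine sub_eq_zero.mp (D.eq_zero_of_rat fun u => ?_)
    have h1 : polar Q v (ρR (u - D.rp u t • r₀)) = 0 := by
      have h2 := hnz u₀ (u - D.rp u t • r₀) hu₀
        (by rw [D.rp_sub_left, D.rp_smul_left, hr₀', mul_one, sub_self])
      rw [hv, polar_sub_left, polar_smul_left, polar_smul_left, smul_eq_mul, smul_eq_mul]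
      rw [pi2] at h2
      linear_combination -h2
    rw [ratVec_sub, ratVec_smul, polar_sub_right, polar_smul_right, smul_eq_mul, D.coe_rp] at h1
    rw [polar_comm (⇑Q) (ρR u), polar_sub_left, polar_smul_left, polar_comm (⇑Q) (ρR t) (ρR u), smul_eq_mul]
    linear_combination h1
  obtain ⟨hw, hy, hwy, hroot⟩ := hp
  have htt : Q (ρR t) = 0 := D.Q_rat_zero ht
  have hν0 : ν ≠ 0 := by
    intro hν0
    apply hdep
    intro u u'
    rw [hν0, zero_smul, hv, sub_eq_zero] at hvt
    have hx : ∀ x : Vs, β * polar Q w x = α * polar Q y x := fun x => by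
      have h := congrArg (fun z => polar Q z x) hvt
      simpa [polar_smul_left] using h
    by_contra h
    refine hne ⟨?_, ?_⟩
    · refine (mul_eq_zero.mp (?_ : α * pi2 Q w y (ρR u) (ρR u') = 0)).resolve_right h
      simp only [pi2]
      linear_combination polar Q w (ρR u') * hx (ρR u) - polar Q w (ρR u) * hx (ρR u')
    · refine (mul_eq_zero.mp (?_ : β * pi2 Q w y (ρR u) (ρR u') = 0)).resolve_right h
      simp only [pi2]
      linear_combination polar Q y (ρR u') * hx (ρR u) - polar Q y (ρR u) * hx (ρR u')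
  -- the root element has centre `t`
  obtain ⟨z, hQz, htz, hroot', hker⟩ : ∃ z : Vs, Q z = 0 ∧ polar Q (ρR t) z = 0 ∧ HasRoot Q M (ρR t) z ∧
      ∀ u : Ks, D.rp u t = 0 → polar Q z (ρR u) = 0 → polar Q w (ρR u) = 0 ∧ polar Q y (ρR u) = 0 := by
    have htu : ∀ u : Ks, D.rp u t = 0 → β * polar Q w (ρR u) = α * polar Q y (ρR u) := fun u hu => by
      have h := congrArg (fun z => polar Q z (ρR u)) hvt
      simp only [hv, polar_sub_left, polar_smul_left, polar_comm (⇑Q) (ρR t) (ρR u), D.polar_rat_zero hu,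
        smul_eq_mul, mul_zero] at h
      linear_combination h
    obtain ⟨g, hg, eg⟩ := hroot
    by_cases hβ0 : β = 0
    · have hα0 : α ≠ 0 := fun e => hne ⟨e, hβ0⟩
      have hyt : y = (-(ν / α)) • ρR t := by
        rw [hv, hβ0, zero_smul, zero_sub] at hvt
        rw [neg_smul, ← smul_right_inj hα0, smul_neg, smul_smul, mul_div_cancel₀ _ hα0, ← hvt, neg_neg]
      refine ⟨(ν / α) • w, by rw [QuadraticMap.map_smul, hw, smul_zero],
        by rw [polar_smul_right, polar_comm, htw, smul_zero], ⟨g, hg, fun x => ?_⟩, fun u hu h => ⟨?_, ?_⟩⟩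
      · rw [eg, hy, QuadraticMap.map_smul, hw, hyt]
        simp only [polar_smul_right, smul_eq_mul]
        match_scalars <;> ring
      · rw [polar_smul_left, smul_eq_mul] at h
        exact (mul_eq_zero.mp h).resolve_left (div_ne_zero hν0 hα0)
      · rw [hyt, polar_smul_left, polar_comm (⇑Q) (ρR t) (ρR u), D.polar_rat_zero hu, smul_zero]
    · have hwt : w = (ν / β) • ρR t + (α / β) • y := by
        have h : β • w = ν • ρR t + α • y := by rw [← hvt, hv, sub_add_cancel]
        rw [← smul_right_inj hβ0, h, smul_add, smul_smul, smul_smul, mul_div_cancel₀ _ hβ0,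
          mul_div_cancel₀ _ hβ0]
      refine ⟨(ν / β) • y, by rw [QuadraticMap.map_smul, hy, smul_zero],
        by rw [polar_smul_right, polar_comm, hty, smul_zero], ⟨g, hg, fun x => ?_⟩, fun u hu h => ?_⟩
      · rw [eg, hy, QuadraticMap.map_smul, hy, hwt]
        simp only [polar_add_right, polar_smul_right, smul_eq_mul]
        match_scalars <;> ring
      · rw [polar_smul_left, smul_eq_mul] at h
        have hy0 := (mul_eq_zero.mp h).resolve_left (div_ne_zero hν0 hβ0)
        refine ⟨?_, hy0⟩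
        have h1 := htu u hu
        rw [hy0, mul_zero] at h1
        exact (mul_eq_zero.mp h1).resolve_left hβ0
  have hzK : ∀ u : Ks, D.rp u t = 0 → polar Q z (ρR u) ∈ K := by
    obtain ⟨c, hct, hc, hcS⟩ := D.exists_sing_perp_notMem ![t] (Submodule.span K {t}) (by omega)
      (by rw [finrank_span_singleton ht0]; omega)
    let S : Submodule K Ks :=
      { carrier := {u | polar Q z (ρR u) ∈ K}
        add_mem' := fun {x x'} hx hx' => by
          simp only [Set.mem_setOf_eq] at hx hx' ⊢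
          rw [ratVec_add, polar_add_right]; exact K.add_mem hx hx'
        zero_mem' := by
          simp only [Set.mem_setOf_eq, ratVec_zero, polar_zero_right]
          exact K.zero_mem
        smul_mem' := fun k x hx => by
          simp only [Set.mem_setOf_eq] at hx ⊢
          rw [ratVec_smul, polar_smul_right]; exact K.mul_mem k.2 hx }
    intro u hu
    refine D.sing_perp_mem ![t] (by omega) S (fun x hx hxx => hno _ ?_) (fun i => by fin_cases i; exact hu)
    exact D.good_of_pair hO hn (OData.indep_two ht0 hcS) ht hc (by rw [D.rp_comm]; exact hct 0)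
      (D.spread hO hn ht htz hroot' hxx hc (hx 0) (hct 0))
  obtain ⟨b, hb⟩ := D.exists_rep_on_perp ht0 hzK
  refine ⟨b, 0, fun u hu h1 _ => hker u hu ?_⟩
  rw [hb u hu, h1, ZeroMemClass.coe_zero]

end OData

end Cfsg.Agent.Lib.OrthSubfield
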