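import Cfsg.Agent.Lib.OrthSubfield.CaseA
import Cfsg.Agent.Lib.SUSubfield.SLTwo

/-!
A non-zero root group has a rational singular vector orthogonal to it, when no new scalar arises.
-/

set_option autoImplicit false

namespace Cfsg.Agent.Lib.OrthSubfield

open Matrix QuadraticMap Cfsg.Agent.Lib Cfsg.Agent.Lib.SubfieldMax

variable {ι : Type} [Fintype ι] [DecidableEq ι] {F : Type*} [Field F] [Finite F] {Q : QuadraticForm F (ι → F)}
  {K : Subfield F} {P : GL ι F} {M : Subgroup ((ι → F) ≃ₗ[F] (ι → F))}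

local notation "Vs" => (ι → F)
local notation "Ks" => (ι → K)
local notation "ρR" => ratVec K P

omit [DecidableEq ι] [Fintype ι] [Finite F] in
/-- Cramer's rule for the two products. -/
theorem pi2_cramer (w y u v z : Vs) :
    pi2 Q w y u v * polar Q w z = pi2 Q w y z v * polar Q w u + pi2 Q w y u z * polar Q w v ∧
    pi2 Q w y u v * polar Q y z = pi2 Q w y z v * polar Q y u + pi2 Q w y u z * polar Q y v := by
  constructor <;> simp only [pi2] <;> ring

/-- A totally singular rational space on which the products of a root group are not proportional. -/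
structure TriData (D : OData Q K P) (w y : ι → F) (a b c : ι → K) : Prop where
  sa : D.rQ a = 0
  sb : D.rQ b = 0
  sc : D.rQ c = 0
  ab : D.rp a b = 0
  ac : D.rp a c = 0
  bc : D.rp b c = 0
  indep : LinearIndependent K ![c, a, b]
  ne : pi2 Q w y (ratVec K P a) (ratVec K P b) ≠ 0
  out : ¬ (pi2 Q w y (ratVec K P c) (ratVec K P b) / pi2 Q w y (ratVec K P a) (ratVec K P b) ∈ K ∧
    pi2 Q w y (ratVec K P a) (ratVec K P c) / pi2 Q w y (ratVec K P a) (ratVec K P b) ∈ K)

namespace OData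

variable (D : OData Q K P)
include D

theorem exists_triData (hn : 13 ≤ Fintype.card ι) {w y : Vs}
    (hne : ¬ ∀ u v : Ks, pi2 Q w y (ρR u) (ρR v) = 0)
    (hfull : ∀ t : Ks, D.rQ t = 0 → t ≠ 0 → ¬ (polar Q w (ρR t) = 0 ∧ polar Q y (ρR t) = 0)) :
    ∃ a b c, TriData D w y a b c := by
  obtain ⟨a, b, ha, hb, hab, hD⟩ : ∃ a b, D.rQ a = 0 ∧ D.rQ b = 0 ∧ D.rp a b = 0 ∧
      pi2 Q w y (ρR a) (ρR b) ≠ 0 := by
    by_contra hall
    push Not at hall
    apply hne
    have key : ∀ a b, D.rQ a = 0 → D.rQ b = 0 → pi2 Q w y (ρR a) (ρR b) = 0 := by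
      intro a b ha hb
      obtain ⟨c, hc, hcc, hcS⟩ := D.exists_sing_perp_notMem ![a, b] ⊥ (by omega) (by rw [finrank_bot]; omega)
      have h1 := hall a c ha hcc (by rw [D.rp_comm]; exact hc 0)
      have h2 := hall c b hcc hb (hc 1)
      obtain ⟨k1, k2⟩ := pi2_cramer (Q := Q) w y (ρR a) (ρR b) (ρR c)
      rw [h1, h2] at k1 k2
      simp only [zero_mul, add_zero] at k1 k2
      by_contra h
      exact hfull c hcc (OData.ne_zero_of_notMem hcS)
        ⟨(mul_eq_zero.mp k1).resolve_left h, (mul_eq_zero.mp k2).resolve_left h⟩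
    intro u v
    let S : Vs → Submodule K Ks := fun z =>
      { carrier := {u | pi2 Q w y (ρR u) z = 0}
        add_mem' := fun {x x'} hx hx' => by
          simp only [Set.mem_setOf_eq] at hx hx' ⊢
          rw [ratVec_add, pi2_add_left, hx, hx', add_zero]
        zero_mem' := by simp [ratVec_zero, pi2]
        smul_mem' := fun k x hx => by
          simp only [Set.mem_setOf_eq] at hx ⊢
          rw [ratVec_smul, pi2_smul_left, hx, mul_zero] }
    have half : ∀ a, D.rQ a = 0 → ∀ u, pi2 Q w y (ρR u) (ρR a) = 0 := fun a ha u =>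
      D.sing_perp_mem (![] : Fin 0 → Ks) (by omega) (S (ρR a)) (fun x _ hx => key x a hx ha) (x := u)
        (fun i => i.elim0)
    have h : pi2 Q w y (ρR v) (ρR u) = 0 :=
      D.sing_perp_mem (![] : Fin 0 → Ks) (by omega) (S (ρR u)) (fun x _ hx => by
        show pi2 Q w y (ρR x) (ρR u) = 0
        rw [pi2_comm, half x hx u, neg_zero]) (x := v) (fun i => i.elim0)
    rw [pi2_comm, h, neg_zero]
  have hliab : LinearIndependent K ![a, b] := by
    rw [LinearIndependent.pair_iff]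
    intro s t e
    have e' : (s : F) • ρR a + (t : F) • ρR b = 0 := by rw [← ratVec_smul, ← ratVec_smul, ← ratVec_add, e, ratVec_zero]
    have h1 : (s : F) * pi2 Q w y (ρR a) (ρR b) = 0 := by
      have h := congrArg (fun z => pi2 Q w y z (ρR b)) e'
      simp only [pi2_add_left, pi2_smul_left] at h
      simpa [pi2, mul_comm] using h
    have h2 : (t : F) * pi2 Q w y (ρR a) (ρR b) = 0 := by
      have h := congrArg (fun z => pi2 Q w y (ρR a) z) e'
      simp only [pi2, polar_add_right, polar_smul_right, polar_zero_right, smul_eq_mul] at h ⊢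
      linear_combination h
    exact ⟨Subtype.ext ((mul_eq_zero.mp h1).resolve_right hD), Subtype.ext ((mul_eq_zero.mp h2).resolve_right hD)⟩
  obtain ⟨c, hc, hcc, hcS⟩ := D.exists_sing_perp_notMem ![a, b] (Submodule.span K (Set.range ![a, b])) (by omega)
    (by have := OData.finrank_span_fin_le (K := K) ![a, b]; omega)
  have hca : D.rp c a = 0 := hc 0
  have hcb : D.rp c b = 0 := hc 1
  have hcS' : c ∉ Submodule.span K {a, b} := by
    rwa [Matrix.range_cons, Matrix.range_cons, Matrix.range_empty, Set.union_empty, ← Set.insert_eq] at hcS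
  refine ⟨a, b, c, ha, hb, hcc, hab, (D.rp_comm a c).trans hca, (D.rp_comm b c).trans hcb,
    OData.indep_three hliab hcS', hD, ?_⟩
  rintro ⟨h1, h2⟩
  set k₁ : K := ⟨_, h1⟩ with hk₁
  set k₂ : K := ⟨_, h2⟩ with hk₂
  set t := c - k₁ • a - k₂ • b with ht
  refine hfull t ?_ (fun e => hcS' ?_) ?_
  · rw [ht, sub_eq_add_neg, sub_eq_add_neg, D.rQ_add, D.rQ_add, ← neg_smul, ← neg_smul, D.rQ_smul, D.rQ_smul]
    simp only [D.rp_add_left, D.rp_smul_left, D.rp_smul_right, ha, hb, hcc, hca, hcb, hab]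
    ring
  · rw [ht, sub_sub, sub_eq_zero] at e
    rw [e]
    exact Submodule.add_mem _ (Submodule.smul_mem _ _ (Submodule.subset_span (by simp)))
      (Submodule.smul_mem _ _ (Submodule.subset_span (by simp)))
  · obtain ⟨e1, e2⟩ := pi2_cramer (Q := Q) w y (ρR a) (ρR b) (ρR c)
    simp only [ht, ratVec_sub, ratVec_smul, polar_sub_right, polar_smul_right, smul_eq_mul, hk₁, hk₂]
    constructor <;> field_simp
    · linear_combination e1
    · linear_combination e2

theorem exists_triMove (hO : Over D M) {w y : Vs} (hp : RootPair Q M w y) {a b c : Ks}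
    (hT : TriData D w y a b c) {k₁ k₂ : F} {ρ : Vs}
    (hk₁ : k₁ = pi2 Q w y (ρR c) (ρR b) / pi2 Q w y (ρR a) (ρR b))
    (hk₂ : k₂ = pi2 Q w y (ρR a) (ρR c) / pi2 Q w y (ρR a) (ρR b))
    (hρ : ρ = ρR c - k₁ • ρR a - k₂ • ρR b) :
    ∃ g ∈ M, ∃ p e₁ e₂ : F, p ≠ 1 ∧ g (ρR a) = p • ρR a + e₁ • ρ ∧ g (ρR b) = p • ρR b + e₂ • ρ ∧
      ∀ x, polar Q x (ρR a) = 0 → polar Q x (ρR b) = 0 → polar Q x (ρR c) = 0 → polar Q x w = 0 →
        polar Q x y = 0 → g x = x := by
  classical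
  obtain ⟨hw, hy, hwy, hroot⟩ := hp
  set A := ρR a with hA
  set B := ρR b with hB
  set C := ρR c with hC
  set d := pi2 Q w y A B with hd
  have hd0 : d ≠ 0 := hT.ne
  set va := polar Q A y • w - polar Q A w • y with hva
  set vb := polar Q B y • w - polar Q B w • y with hvb
  have qA : Q A = 0 := D.Q_rat_zero hT.sa
  have qB : Q B = 0 := D.Q_rat_zero hT.sb
  have qC : Q C = 0 := D.Q_rat_zero hT.sc
  have pAB : polar Q A B = 0 := D.polar_rat_zero hT.ab
  have pAC : polar Q A C = 0 := D.polar_rat_zero hT.ac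
  have pBC : polar Q B C = 0 := D.polar_rat_zero hT.bc
  have pAA : polar Q A A = 0 := by rw [polar_self, qA, smul_zero]
  have pBB : polar Q B B = 0 := by rw [polar_self, qB, smul_zero]
  have pww : polar Q w w = 0 := by rw [polar_self, hw, smul_zero]
  have pyy : polar Q y y = 0 := by rw [polar_self, hy, smul_zero]
  have c1 : pi2 Q w y C B = k₁ * d := by rw [hk₁, div_mul_cancel₀ _ hd0]
  have c2 : pi2 Q w y A C = k₂ * d := by rw [hk₂, div_mul_cancel₀ _ hd0]
  have ρw : polar Q ρ w = 0 := by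
    rw [hρ]
    simp only [polar_sub_left, polar_smul_left, smul_eq_mul, polar_comm (⇑Q) A w, polar_comm (⇑Q) B w,
      polar_comm (⇑Q) C w]
    refine (mul_eq_zero.mp (?_ : d * _ = 0)).resolve_left hd0
    linear_combination (pi2_cramer (Q := Q) w y A B C).1 + polar Q w A * c1 + polar Q w B * c2
  have ρy : polar Q ρ y = 0 := by
    rw [hρ]
    simp only [polar_sub_left, polar_smul_left, smul_eq_mul, polar_comm (⇑Q) A y, polar_comm (⇑Q) B y,
      polar_comm (⇑Q) C y]
    refine (mul_eq_zero.mp (?_ : d * _ = 0)).resolve_left hd0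
    linear_combination (pi2_cramer (Q := Q) w y A B C).2 + polar Q y A * c1 + polar Q y B * c2
  have ρA : polar Q ρ A = 0 := by
    simp [hρ, polar_sub_left, polar_smul_left, pAA, polar_comm (⇑Q) B A, pAB, polar_comm (⇑Q) C A, pAC]
  have ρB : polar Q ρ B = 0 := by
    simp [hρ, polar_sub_left, polar_smul_left, pBB, pAB, polar_comm (⇑Q) C B, pBC]
  have ρC : polar Q ρ C = 0 := by
    simp [hρ, polar_sub_left, polar_smul_left, pAC, pBC, polar_self, qC]
  have vaA : polar Q va A = 0 := by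
    simp only [hva, polar_sub_left, polar_smul_left, smul_eq_mul, polar_comm (⇑Q) A w, polar_comm (⇑Q) A y]
    ring
  have vaB : polar Q va B = -d := by
    simp only [hva, hd, pi2, polar_sub_left, polar_smul_left, smul_eq_mul, polar_comm (⇑Q) A w,
      polar_comm (⇑Q) A y]
    ring
  have vaC : polar Q va C = -(k₂ * d) := by
    rw [← c2]
    simp only [hva, pi2, polar_sub_left, polar_smul_left, smul_eq_mul, polar_comm (⇑Q) A w, polar_comm (⇑Q) A y]
    ring
  have vbA : polar Q vb A = d := by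
    simp only [hvb, hd, pi2, polar_sub_left, polar_smul_left, smul_eq_mul, polar_comm (⇑Q) B w,
      polar_comm (⇑Q) B y]
    ring
  have vbB : polar Q vb B = 0 := by
    simp only [hvb, polar_sub_left, polar_smul_left, smul_eq_mul, polar_comm (⇑Q) B w, polar_comm (⇑Q) B y]
    ring
  have vbC : polar Q vb C = k₁ * d := by
    rw [← c1]
    simp only [hvb, pi2, polar_sub_left, polar_smul_left, smul_eq_mul, polar_comm (⇑Q) B w, polar_comm (⇑Q) B y]
    ring
  have vaw : polar Q va w = 0 := by simp [hva, polar_sub_left, polar_smul_left, pww, polar_comm (⇑Q) y w, hwy]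
  have vay : polar Q va y = 0 := by simp [hva, polar_sub_left, polar_smul_left, pyy, hwy]
  have vbw : polar Q vb w = 0 := by simp [hvb, polar_sub_left, polar_smul_left, pww, polar_comm (⇑Q) y w, hwy]
  have vby : polar Q vb y = 0 := by simp [hvb, polar_sub_left, polar_smul_left, pyy, hwy]
  have vavb : polar Q va vb = 0 := by simp [hvb, polar_sub_right, polar_smul_right, vaw, vay]
  let Fix : (Vs ≃ₗ[F] Vs) → Prop := fun g => ∀ x, polar Q x A = 0 → polar Q x B = 0 → polar Q x C = 0 →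
    polar Q x w = 0 → polar Q x y = 0 → g x = x
  let Co : (Vs ≃ₗ[F] Vs) → F → F → F → F → Prop := fun g p q r s => ∃ e₁ e₂ e₃ e₄ : F,
    g A = p • A + q • va + e₁ • ρ ∧ g va = r • A + s • va + e₂ • ρ ∧
    g B = p • B + q • vb + e₃ • ρ ∧ g vb = r • B + s • vb + e₄ • ρ
  let fA : Vs → F := fun x => polar Q x vb / d
  let fC : Vs → F := fun x => -polar Q x B / d
  have cA : ∀ p q e : F, fA (p • A + q • va + e • ρ) = p := fun p q e => by
    have h1 : polar Q A vb = d := by rw [polar_comm, vbA]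
    have h2 : polar Q ρ vb = 0 := by simp [hvb, polar_sub_right, polar_smul_right, ρw, ρy]
    simp only [fA, polar_add_left, polar_smul_left, h1, h2, vavb, smul_eq_mul]
    field_simp
    ring
  have cC : ∀ p q e : F, fC (p • A + q • va + e • ρ) = q := fun p q e => by
    simp only [fC, polar_add_left, polar_smul_left, pAB, vaB, ρB, smul_eq_mul]
    field_simp
    ring
  have coord : ∀ {g : Vs ≃ₗ[F] Vs} {p q r s : F}, Co g p q r s →
      fA (g A) = p ∧ fC (g A) = q ∧ fA (g va) = r ∧ fC (g va) = s := by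
    rintro g p q r s ⟨e₁, e₂, e₃, e₄, h1, h2, -, -⟩
    rw [h1, h2]
    exact ⟨cA _ _ _, cC _ _ _, cA _ _ _, cC _ _ _⟩
  have comp : ∀ {g h : Vs ≃ₗ[F] Vs} {p q r s p' q' r' s' : F}, Fix g → Co g p q r s → Co h p' q' r' s' →
      Co (g * h) (p' * p + q' * r) (p' * q + q' * s) (r' * p + s' * r) (r' * q + s' * s) := by
    rintro g h p q r s p' q' r' s' gF ⟨e₁, e₂, e₃, e₄, g1, g2, g3, g4⟩ ⟨f₁, f₂, f₃, f₄, h1, h2, h3, h4⟩
    have hgρ : g ρ = ρ := gF ρ ρA ρB ρC ρw ρy
    refine ⟨p' * e₁ + q' * e₂ + f₁, r' * e₁ + s' * e₂ + f₂, p' * e₃ + q' * e₄ + f₃, r' * e₃ + s' * e₄ + f₄,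
      ?_, ?_, ?_, ?_⟩ <;> rw [LinearEquiv.mul_apply]
    · rw [h1, map_add, map_add, map_smul, map_smul, map_smul, hgρ, g1, g2]; module
    · rw [h2, map_add, map_add, map_smul, map_smul, map_smul, hgρ, g1, g2]; module
    · rw [h3, map_add, map_add, map_smul, map_smul, map_smul, hgρ, g3, g4]; module
    · rw [h4, map_add, map_add, map_smul, map_smul, map_smul, hgρ, g3, g4]; module
  have hCo1 : Co 1 1 0 0 1 := ⟨0, 0, 0, 0, by simp, by simp, by simp, by simp⟩
  let M0 : Submonoid (Vs ≃ₗ[F] Vs) :=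
    { carrier := {g | g ∈ M ∧ Fix g ∧ ∃ p q r s, p * s - q * r = 1 ∧ Co g p q r s}
      one_mem' := ⟨M.one_mem, fun x _ _ _ _ _ => rfl, 1, 0, 0, 1, by ring, hCo1⟩
      mul_mem' := by
        rintro g h ⟨hg, gF, p, q, r, s, gd, gC⟩ ⟨hh, hF, p', q', r', s', hd', hC'⟩
        exact ⟨M.mul_mem hg hh, fun x x1 x2 x3 x4 x5 => by
          rw [LinearEquiv.mul_apply, hF x x1 x2 x3 x4 x5, gF x x1 x2 x3 x4 x5],
          _, _, _, _, by linear_combination (p * s - q * r) * hd' + gd, comp gF gC hC'⟩ }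
  haveI : Finite (Vs ≃ₗ[F] Vs) := Finite.of_injective (fun e => (e : Vs → Vs)) DFunLike.coe_injective
  let G0 : Subgroup (Vs ≃ₗ[F] Vs) :=
    { M0 with
      inv_mem' := fun {g} hg => by
        have hpos : 0 < orderOf g := orderOf_pos g
        have h : g⁻¹ = g ^ (orderOf g - 1) := inv_eq_of_mul_eq_one_right (by
          rw [← pow_succ', Nat.sub_add_cancel hpos, pow_orderOf_eq_one])
        rw [h]
        exact pow_mem (show g ∈ M0 from hg) _ }
  let mat : (Vs ≃ₗ[F] Vs) → Matrix (Fin 2) (Fin 2) F := fun g =>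
    !![fA (g A), fA (g va); fC (g A), fC (g va)]
  have hmat : ∀ {g : Vs ≃ₗ[F] Vs} {p q r s : F}, Co g p q r s → mat g = !![p, r; q, s] := by
    intro g p q r s h
    obtain ⟨a1, a2, a3, a4⟩ := coord h
    simp only [mat, a1, a2, a3, a4]
  let φ : G0 →* Matrix.SpecialLinearGroup (Fin 2) F :=
    { toFun := fun g => ⟨mat g.1, by
        obtain ⟨-, -, p, q, r, s, hd', hC'⟩ := g.2
        rw [hmat hC', Matrix.det_fin_two_of]
        linear_combination hd'⟩
      map_one' := Subtype.ext (by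
        show mat 1 = 1
        rw [hmat hCo1, Matrix.one_fin_two])
      map_mul' := fun g h => by
        obtain ⟨-, gF, p, q, r, s, -, gC⟩ := g.2
        obtain ⟨-, -, p', q', r', s', -, hC'⟩ := h.2
        refine Subtype.ext ?_
        show mat (g.1 * h.1) = mat g.1 * mat h.1
        rw [hmat gC, hmat hC', hmat (comp gF gC hC'), Matrix.mul_fin_two]
        congr 1 <;> simp [mul_comm] }
  -- generators
  obtain ⟨g₁, hg₁, eg₁⟩ := hO.rat a b hT.sa hT.sb hT.ab
  obtain ⟨g₂, hg₂, eg₂⟩ := hO.rat a c hT.sa hT.sc hT.ac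
  obtain ⟨g₃, hg₃, eg₃⟩ := hO.rat c b hT.sc hT.sb (by rw [D.rp_comm]; exact hT.bc)
  obtain ⟨g₄, hg₄, eg₄⟩ := hroot
  simp only [← hA, ← hB, ← hC, qB, qC, hy, zero_mul, zero_smul, sub_zero] at eg₁ eg₂ eg₃ eg₄
  have C1 : Co g₁ 1 0 (-d) 1 := by
    refine ⟨0, 0, 0, 0, ?_, ?_, ?_, ?_⟩ <;> rw [eg₁]
    · rw [pAB, pAA]; module
    · rw [vaB, vaA]; module
    · rw [pBB, polar_comm (⇑Q) B A, pAB]; module
    · rw [vbB, vbA]; module
  have C2 : Co g₂ 1 0 (-(k₂ * d)) 1 := by
    refine ⟨0, 0, 0, -d, ?_, ?_, ?_, ?_⟩ <;> rw [eg₂]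
    · rw [pAC, pAA]; module
    · rw [vaC, vaA]; module
    · rw [pBC, polar_comm (⇑Q) B A, pAB]; module
    · rw [vbC, vbA, hρ]; module
  have C3 : Co g₃ 1 0 (-(k₁ * d)) 1 := by
    refine ⟨0, -d, 0, 0, ?_, ?_, ?_, ?_⟩ <;> rw [eg₃]
    · rw [pAB, pAC]; module
    · rw [vaB, vaC, hρ]; module
    · rw [pBB, pBC]; module
    · rw [vbB, vbC]; module
  have C4 : Co g₄ 1 1 0 1 := by
    refine ⟨0, 0, 0, 0, ?_, ?_, ?_, ?_⟩ <;> rw [eg₄]
    · rw [hva]; module
    · rw [vay, vaw]; module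
    · rw [hvb]; module
    · rw [vby, vbw]; module
  have F1 : Fix g₁ := fun x xA xB _ _ _ => by rw [eg₁, xA, xB]; simp
  have F2 : Fix g₂ := fun x xA _ xC _ _ => by rw [eg₂, xA, xC]; simp
  have F3 : Fix g₃ := fun x _ xB xC _ _ => by rw [eg₃, xB, xC]; simp
  have F4 : Fix g₄ := fun x _ _ _ xw xy => by rw [eg₄, xw, xy]; simp
  let G1 : G0 := ⟨g₁, hg₁, F1, 1, 0, _, 1, by ring, C1⟩
  let G4 : G0 := ⟨g₄, hg₄, F4, 1, 1, 0, 1, by ring, C4⟩
  obtain ⟨G2, k, hk, hG2⟩ : ∃ (G2 : G0) (k : F), k ∉ K ∧ mat G2.1 = !![1, -(k * d); 0, 1] := by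
    have hout := hT.out
    rw [← hk₁, ← hk₂] at hout
    by_cases h : k₁ ∈ K
    · exact ⟨⟨g₂, hg₂, F2, 1, 0, _, 1, by ring, C2⟩, k₂, fun h' => hout ⟨h, h'⟩, hmat C2⟩
    · exact ⟨⟨g₃, hg₃, F3, 1, 0, _, 1, by ring, C3⟩, k₁, h, hmat C3⟩
  let el : Fin 4 → G0 := ![1, G1, G2, G1 * G2]
  let val : Fin 4 → F := ![0, 1, k, 1 + k]
  have hel : ∀ i, (φ (el i)).1 = !![1, -(val i * d); 0, 1] := by
    have m1 : (φ G1).1 = !![1, -d; 0, 1] := hmat C1
    have m2 : (φ G2).1 = !![1, -(k * d); 0, 1] := hG2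
    intro i
    fin_cases i
    · simp [el, val, Matrix.one_fin_two]
    · simp [el, val, m1]
    · simp [el, val, m2]
    · simp [el, val, map_mul, m1, m2]
      ring
  have hval : Function.Injective val := by
    have n0 : k ≠ 0 := fun e => hk (e ▸ K.zero_mem)
    have n1 : k ≠ 1 := fun e => hk (e ▸ K.one_mem)
    have n2 : 1 + k ≠ 0 := fun e => hk (by
      rw [show k = -1 by linear_combination e]; exact K.neg_mem K.one_mem)
    intro i j e
    fin_cases i <;> fin_cases j <;> simp [val] at e ⊢ <;>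
      first | exact n0 e | exact n0 e.symm | exact n1 e | exact n1 e.symm | exact n2 e | exact n2 e.symm
  haveI : Finite φ.range := Finite.of_surjective φ.rangeRestrict φ.rangeRestrict_surjective
  obtain ⟨_, ⟨g, rfl⟩, hg10, hg00⟩ := SUSubfield.exists_torus_elem φ.range
    ⟨fun i => ⟨φ (el i), el i, rfl⟩, fun i j e => hval (by
      have e' : (φ (el i)).1 = (φ (el j)).1 := congrArg (fun z : φ.range => z.1.1) e
      rw [hel, hel] at e'
      have h := congrFun (congrFun e' 0) 1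
      simp at h
      exact h.resolve_right hd0),
      fun i => by
        show (φ (el i)).1 1 0 = 0 ∧ (φ (el i)).1 0 0 = 1
        rw [hel]; simp⟩
    ⟨φ G4, ⟨G4, rfl⟩, by
      show mat g₄ 1 0 ≠ 0
      rw [hmat C4]
      simp⟩
  obtain ⟨hgM, hgF, p, q, r, s, -, hC'⟩ := g.2
  change mat g.1 1 0 = 0 at hg10
  change mat g.1 0 0 ≠ 1 at hg00
  rw [hmat hC'] at hg10 hg00
  simp at hg10 hg00
  subst hg10
  obtain ⟨e₁, e₂, e₃, e₄, h1, -, h3, -⟩ := hC'
  exact ⟨g.1, hgM, p, e₁, e₃, hg00, by rw [h1]; module, by rw [h3]; module, hgF⟩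

theorem exists_kernel_vec (hO : Over D M) (hn : 13 ≤ Fintype.card ι) (hno : ∀ c, Good D M c → c ∈ K) {w y : Vs}
    (hp : RootPair Q M w y) (hne : ¬ ∀ u v : Ks, pi2 Q w y (ρR u) (ρR v) = 0) :
    ∃ t : Ks, D.rQ t = 0 ∧ t ≠ 0 ∧ polar Q w (ρR t) = 0 ∧ polar Q y (ρR t) = 0 := by
  by_contra hex
  have hfull : ∀ t : Ks, D.rQ t = 0 → t ≠ 0 → ¬ (polar Q w (ρR t) = 0 ∧ polar Q y (ρR t) = 0) :=
    fun t h1 h2 h3 => hex ⟨t, h1, h2, h3.1, h3.2⟩
  obtain ⟨a, b, c, hT⟩ := D.exists_triData hn hne hfull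
  set d := pi2 Q w y (ρR a) (ρR b) with hd
  have hd0 : d ≠ 0 := hT.ne
  set k₁ := pi2 Q w y (ρR c) (ρR b) / d with hk₁
  set k₂ := pi2 Q w y (ρR a) (ρR c) / d with hk₂
  set ρ := ρR c - k₁ • ρR a - k₂ • ρR b with hρ
  obtain ⟨g, hg, p, e₁, e₂, hp1, ga, gb, gF⟩ := D.exists_triMove hO hp hT hk₁ hk₂ hρ
  -- displacement coefficients
  let α : Ks → F := fun s => pi2 Q w y (ρR s) (ρR b) / d
  let β : Ks → F := fun s => pi2 Q w y (ρR a) (ρR s) / d
  let A3 : Ks → F := fun s => α s * e₁ + β s * e₂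
  let A1 : Ks → F := fun s => α s * (p - 1) - k₁ * A3 s
  let A2 : Ks → F := fun s => β s * (p - 1) - k₂ * A3 s
  have hdisp : ∀ s, D.rp s a = 0 → D.rp s b = 0 → D.rp s c = 0 →
      g (ρR s) = ρR s + A1 s • ρR a + A2 s • ρR b + A3 s • ρR c := by
    intro s hsa hsb hsc
    have z1 : polar Q (ρR s) (ρR a) = 0 := D.polar_rat_zero hsa
    have z2 : polar Q (ρR s) (ρR b) = 0 := D.polar_rat_zero hsb
    have z3 : polar Q (ρR s) (ρR c) = 0 := D.polar_rat_zero hsc
    obtain ⟨c1, c2⟩ := pi2_cramer (Q := Q) w y (ρR a) (ρR b) (ρR s)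
    have h0 : g (ρR s - α s • ρR a - β s • ρR b) = ρR s - α s • ρR a - β s • ρR b := by
      refine gF _ ?_ ?_ ?_ ?_ ?_
      · simp [polar_sub_left, polar_smul_left, z1, polar_self, D.Q_rat_zero hT.sa,
          polar_comm (⇑Q) (ρR b) (ρR a), D.polar_rat_zero hT.ab]
      · simp [polar_sub_left, polar_smul_left, z2, polar_self, D.Q_rat_zero hT.sb, D.polar_rat_zero hT.ab]
      · simp [polar_sub_left, polar_smul_left, z3, D.polar_rat_zero hT.ac, D.polar_rat_zero hT.bc]
      · simp only [polar_sub_right, polar_smul_right, smul_eq_mul, polar_comm (⇑Q) _ w, α, β, hd]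
        have hi := inv_mul_cancel₀ hd0
        rw [hd] at hi
        simp only [div_eq_mul_inv]
        linear_combination (pi2 Q w y (ρR a) (ρR b))⁻¹ * c1 - polar Q w (ρR s) * hi
      · simp only [polar_sub_right, polar_smul_right, smul_eq_mul, polar_comm (⇑Q) _ y, α, β, hd]
        have hi := inv_mul_cancel₀ hd0
        rw [hd] at hi
        simp only [div_eq_mul_inv]
        linear_combination (pi2 Q w y (ρR a) (ρR b))⁻¹ * c2 - polar Q y (ρR s) * hi
    rw [map_sub, map_sub, map_smul, map_smul, ga, gb, sub_sub, sub_eq_iff_eq_add] at h0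
    rw [h0, hρ]
    simp only [A1, A2, A3]
    module
  -- these coefficients are rational
  have key : ∀ s s' : Ks, D.rQ s = 0 → D.rQ s' = 0 → D.rp s s' = 0 →
      (∀ u ∈ [s, s'], D.rp u a = 0 ∧ D.rp u b = 0 ∧ D.rp u c = 0) →
      LinearIndependent K ![s', s, c, a, b] → A1 s ∈ K ∧ A2 s ∈ K ∧ A3 s ∈ K := by
    intro s s' hs hs' hss hperp hli
    obtain ⟨sa, sb, sc⟩ := hperp s (by simp)
    obtain ⟨sa', sb', sc'⟩ := hperp s' (by simp)
    have gs := hdisp s sa sb sc
    have gs' := hdisp s' sa' sb' sc'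
    have hpair : RootPair Q M (g (ρR s)) (g (ρR s')) :=
      ⟨by rw [hO.iso g hg, D.Q_rat_zero hs], by rw [hO.iso g hg, D.Q_rat_zero hs'],
        by rw [Classical.isometry_polar (hO.iso g hg), D.polar_rat_zero hss],
        hasRoot_conj hO.iso hg (hO.rat s s' hs hs' hss)⟩
    obtain ⟨t, ht, htt, htS⟩ := D.exists_sing_perp_notMem ![a, b, c, s, s'] ⊥ (by omega)
      (by rw [finrank_bot]; omega)
    have hperp' : ∀ i, polar Q (ρR (![a, b, c, s, s'] i)) (ρR t) = 0 := fun i => by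
      rw [polar_comm]; exact D.polar_rat_zero (ht i)
    have q0 : polar Q (ρR a) (ρR t) = 0 := hperp' 0
    have q1 : polar Q (ρR b) (ρR t) = 0 := hperp' 1
    have q2 : polar Q (ρR c) (ρR t) = 0 := hperp' 2
    have q3 : polar Q (ρR s) (ρR t) = 0 := hperp' 3
    have q4 : polar Q (ρR s') (ρR t) = 0 := hperp' 4
    have hrat := D.isRatPair hO hn hno hpair htt (OData.ne_zero_of_notMem htS)
      (by simp [gs, polar_add_left, polar_smul_left, q0, q1, q2, q3])
      (by simp [gs', polar_add_left, polar_smul_left, q0, q1, q2, q4])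
    obtain ⟨r, hr⟩ := D.exists_dual hli ![1, 0, 0, 0, 0]
    have mk : ∀ {u v : Ks} {x : K}, D.rp u v = x → polar Q (ρR v) (ρR u) = (x : F) := fun h => by
      rw [polar_comm, D.polar_rat_eq h]
    have r0 := mk (show D.rp r s' = 1 from hr 0)
    have r1 := mk (show D.rp r s = 0 from hr 1)
    have r2 := mk (show D.rp r c = 0 from hr 2)
    have r3 := mk (show D.rp r a = 0 from hr 3)
    have r4 := mk (show D.rp r b = 0 from hr 4)
    have coef : ∀ (x : Fin 5 → K), x 0 = 0 → x 1 = 0 →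
        A1 s * (x 3 : F) + A2 s * (x 4 : F) + A3 s * (x 2 : F) ∈ K := by
      intro x x0 x1
      obtain ⟨r', hr'⟩ := D.exists_dual hli x
      have u0 := mk (show D.rp r' s' = x 0 from hr' 0)
      have u1 := mk (show D.rp r' s = x 1 from hr' 1)
      have u2 := mk (show D.rp r' c = x 2 from hr' 2)
      have u3 := mk (show D.rp r' a = x 3 from hr' 3)
      have u4 := mk (show D.rp r' b = x 4 from hr' 4)
      have h := hrat r' r
      simp only [pi2, gs, gs', polar_add_left, polar_smul_left, u0, u1, u2, u3, u4, r0, r1, r2, r3, r4, x0, x1,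
        ZeroMemClass.coe_zero, OneMemClass.coe_one, smul_eq_mul, mul_zero, mul_one, zero_add, add_zero,
        sub_zero] at h
      exact h
    have h1 := coef ![0, 0, 0, 1, 0] rfl rfl
    have h2 := coef ![0, 0, 0, 0, 1] rfl rfl
    have h3 := coef ![0, 0, 1, 0, 0] rfl rfl
    simp at h1 h2 h3
    exact ⟨h1, h2, h3⟩
  -- three vectors in a totally singular space
  have hli0 := hT.indep
  obtain ⟨s₁, hs₁, hs₁₁, hs₁S⟩ := D.exists_sing_perp_notMem ![c, a, b] (Submodule.span K (Set.range ![c, a, b]))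
    (by omega) (by have := OData.finrank_span_fin_le (K := K) ![c, a, b]; omega)
  obtain ⟨s₂, hs₂, hs₂₂, hs₂S⟩ := D.exists_sing_perp_notMem ![c, a, b, s₁]
    (Submodule.span K (Set.range ![s₁, c, a, b])) (by omega)
    (by have := OData.finrank_span_fin_le (K := K) ![s₁, c, a, b]; omega)
  obtain ⟨s₃, hs₃, hs₃₃, hs₃S⟩ := D.exists_sing_perp_notMem ![c, a, b, s₁, s₂]
    (Submodule.span K (Set.range ![s₂, s₁, c, a, b])) (by omega)
    (by have := OData.finrank_span_fin_le (K := K) ![s₂, s₁, c, a, b]; omega)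
  have l4 : LinearIndependent K ![s₁, c, a, b] :=
    linearIndependent_finCons.mpr ⟨hli0, hs₁S⟩
  have l5 : LinearIndependent K ![s₂, s₁, c, a, b] := linearIndependent_finCons.mpr ⟨l4, hs₂S⟩
  have l6 : LinearIndependent K ![s₃, s₂, s₁, c, a, b] := linearIndependent_finCons.mpr ⟨l5, hs₃S⟩
  have l5' : LinearIndependent K ![s₁, s₂, c, a, b] := by
    have := l5.comp ![1, 0, 2, 3, 4] (by decide)
    convert this using 1
    funext i; fin_cases i <;> rfl
  have l5'' : LinearIndependent K ![s₁, s₃, c, a, b] := by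
    have := l6.comp ![2, 0, 3, 4, 5] (by decide)
    convert this using 1
    funext i; fin_cases i <;> rfl
  have l3 : LinearIndependent K ![s₁, s₂, s₃] := by
    have := l6.comp ![2, 1, 0] (by decide)
    convert this using 1
    funext i; fin_cases i <;> rfl
  have p1 : D.rp s₁ a = 0 ∧ D.rp s₁ b = 0 ∧ D.rp s₁ c = 0 := ⟨hs₁ 1, hs₁ 2, hs₁ 0⟩
  have p2 : D.rp s₂ a = 0 ∧ D.rp s₂ b = 0 ∧ D.rp s₂ c = 0 := ⟨hs₂ 1, hs₂ 2, hs₂ 0⟩
  have p3 : D.rp s₃ a = 0 ∧ D.rp s₃ b = 0 ∧ D.rp s₃ c = 0 := ⟨hs₃ 1, hs₃ 2, hs₃ 0⟩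
  have K1 := key s₁ s₂ hs₁₁ hs₂₂ (by rw [D.rp_comm]; exact hs₂ 3) (by simp [p1, p2]) l5
  have K2 := key s₂ s₁ hs₂₂ hs₁₁ (hs₂ 3) (by simp [p1, p2]) l5'
  have K3 := key s₃ s₁ hs₃₃ hs₁₁ (hs₃ 3) (by simp [p1, p3]) l5''
  let V3 : Submodule K Ks :=
    { carrier := {u | A1 u ∈ K ∧ A2 u ∈ K ∧ A3 u ∈ K}
      add_mem' := fun {u v} hu hv => by
        have e1 : α (u + v) = α u + α v := by simp only [α, ratVec_add, pi2_add_left, add_div]
        have e2 : β (u + v) = β u + β v := by simp only [β, ratVec_add, pi2_add_right, add_div]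
        simp only [Set.mem_setOf_eq, A1, A2, A3, e1, e2] at hu hv ⊢
        refine ⟨?_, ?_, ?_⟩
        · convert K.add_mem hu.1 hv.1 using 1; ring
        · convert K.add_mem hu.2.1 hv.2.1 using 1; ring
        · convert K.add_mem hu.2.2 hv.2.2 using 1; ring
      zero_mem' := by simp [A1, A2, A3, α, β, ratVec_zero, pi2]
      smul_mem' := fun k u hu => by
        have e1 : α (k • u) = k * α u := by simp only [α, ratVec_smul, pi2_smul_left, mul_div_assoc]
        have e2 : β (k • u) = k * β u := by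
          simp only [β, ratVec_smul]
          rw [pi2_comm, pi2_smul_left, pi2_comm (w := w) (y := y) (u := ρR a) (v := ρR u)]
          ring
        simp only [Set.mem_setOf_eq, A1, A2, A3, e1, e2] at hu ⊢
        refine ⟨?_, ?_, ?_⟩
        · convert K.mul_mem k.2 hu.1 using 1; ring
        · convert K.mul_mem k.2 hu.2.1 using 1; ring
        · convert K.mul_mem k.2 hu.2.2 using 1; ring }
  set Sp' := Submodule.span K (Set.range ![s₁, s₂, s₃]) with hSp'
  have hle : Sp' ≤ V3 := Submodule.span_le.mpr (by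
    rintro _ ⟨i, rfl⟩
    fin_cases i
    · exact K1
    · exact K2
    · exact K3)
  have hfull' : ∀ u ∈ Sp', A1 u = 0 → A2 u = 0 → A3 u = 0 → u = 0 := by
    intro u hu h1 h2 h3
    have hα : α u = 0 := by
      have : α u * (p - 1) = 0 := by simp only [A1] at h1; rw [h3] at h1; simpa using h1
      exact (mul_eq_zero.mp this).resolve_right (sub_ne_zero.mpr hp1)
    have hβ : β u = 0 := by
      have : β u * (p - 1) = 0 := by simp only [A2] at h2; rw [h3] at h2; simpa using h2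
      exact (mul_eq_zero.mp this).resolve_right (sub_ne_zero.mpr hp1)
    simp only [α, β, div_eq_zero_iff, hd0, or_false] at hα hβ
    obtain ⟨c1, c2⟩ := pi2_cramer (Q := Q) w y (ρR a) (ρR b) (ρR u)
    rw [hα, hβ] at c1 c2
    simp only [zero_mul, add_zero] at c1 c2
    by_contra hu0
    refine hfull u ?_ hu0 ⟨(mul_eq_zero.mp c1).resolve_left hd0, (mul_eq_zero.mp c2).resolve_left hd0⟩
    obtain ⟨x, rfl⟩ := (Submodule.mem_span_range_iff_exists_fun K).mp hu
    simp only [Fin.sum_univ_three, Matrix.cons_val_zero, Matrix.cons_val_one, Matrix.cons_val_two,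
      Matrix.head_cons, Matrix.tail_cons, D.rQ_add, D.rQ_smul, D.rp_add_left, D.rp_smul_left, D.rp_smul_right,
      hs₁₁, hs₂₂, hs₃₃, show D.rp s₁ s₂ = 0 from (D.rp_comm _ _).trans (hs₂ 3),
      show D.rp s₁ s₃ = 0 from (D.rp_comm _ _).trans (hs₃ 3),
      show D.rp s₂ s₃ = 0 from (D.rp_comm _ _).trans (hs₃ 4), mul_zero, add_zero]
  let Λ : Sp' →ₗ[K] (K × K × K) :=
    { toFun := fun u => (⟨_, (hle u.2).1⟩, ⟨_, (hle u.2).2.1⟩, ⟨_, (hle u.2).2.2⟩)
      map_add' := fun u v => by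
        refine Prod.ext (Subtype.ext ?_) (Prod.ext (Subtype.ext ?_) (Subtype.ext ?_)) <;>
          simp [A1, A2, A3, α, β, ratVec_add, pi2_add_left, pi2_add_right] <;> ring
      map_smul' := fun k u => by
        refine Prod.ext (Subtype.ext ?_) (Prod.ext (Subtype.ext ?_) (Subtype.ext ?_)) <;>
          simp [A1, A2, A3, α, β, ratVec_smul, pi2, polar_smul_right] <;> ring }
  have hinj : Function.Injective Λ := by
    rw [← LinearMap.ker_eq_bot, LinearMap.ker_eq_bot']
    intro u hu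
    have e1 := congrArg (fun z : K × K × K => (z.1 : F)) hu
    have e2 := congrArg (fun z : K × K × K => (z.2.1 : F)) hu
    have e3 := congrArg (fun z : K × K × K => (z.2.2 : F)) hu
    exact Subtype.ext (hfull' u u.2 e1 e2 e3)
  have hrk : Module.finrank K Sp' = 3 := by rw [hSp', finrank_span_eq_card l3, Fintype.card_fin]
  have hsurj : Function.Surjective Λ :=
    (LinearMap.injective_iff_surjective_of_finrank_eq_finrank
      (by rw [hrk, Module.finrank_prod, Module.finrank_prod, Module.finrank_self])).mp hinj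
  -- but the coefficients satisfy a linear relation
  obtain ⟨u, hu⟩ := hsurj ((1, 0, 0) : K × K × K)
  obtain ⟨v, hv⟩ := hsurj ((0, 1, 0) : K × K × K)
  obtain ⟨x, hx⟩ := hsurj ((0, 0, 1) : K × K × K)
  have rel : ∀ z : Sp', (p - 1) * A3 z = e₁ * (A1 z + k₁ * A3 z) + e₂ * (A2 z + k₂ * A3 z) := fun z => by
    simp only [A1, A2, A3]; ring
  have get : ∀ (z : Sp') (i j l : K), Λ z = (i, j, l) →
      (p - 1) * (l : F) = e₁ * ((i : F) + k₁ * l) + e₂ * ((j : F) + k₂ * l) := fun z i j l h => by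
    have h1 := congrArg (fun z : K × K × K => (z.1 : F)) h
    have h2 := congrArg (fun z : K × K × K => (z.2.1 : F)) h
    have h3 := congrArg (fun z : K × K × K => (z.2.2 : F)) h
    have := rel z
    change A1 z = _ at h1
    change A2 z = _ at h2
    change A3 z = _ at h3
    rwa [h1, h2, h3] at this
  have q1 := get u 1 0 0 hu
  have q2 := get v 0 1 0 hv
  have q3 := get x 0 0 1 hx
  simp at q1 q2 q3
  apply hp1
  subst q1 q2
  linear_combination q3

end OData

end Cfsg.Agent.Lib.OrthSubfield
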