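import Cfsg.Agent.Lib.OrthSubfield.CaseB

/-!
An overgroup of the rational long root elements that moves the rational lines contains all commutators of
isometries.
-/

set_option autoImplicit false

namespace Cfsg.Agent.Lib.OrthSubfield

open Matrix QuadraticMap Cfsg.Agent.Lib Cfsg.Agent.Lib.SubfieldMax

variable {ι : Type} [Fintype ι] [DecidableEq ι] {F : Type*} [Field F] [Finite F] {Q : QuadraticForm F (ι → F)}
  {K : Subfield F} {P : GL ι F} {M : Subgroup ((ι → F) ≃ₗ[F] (ι → F))}

local notation "Vs" => (ι → F)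
local notation "Ks" => (ι → K)
local notation "ρR" => ratVec K P

namespace OData

variable (D : OData Q K P)
include D

theorem exists_rep {v : Vs} (hv : ∀ u : Ks, polar Q v (ρR u) ∈ K) : ∃ b : Ks, v = ρR b := by
  let φ : Ks →ₗ[K] K :=
    { toFun := fun u => ⟨_, hv u⟩
      map_add' := fun u u' => Subtype.ext (by
        show polar Q v (ρR (u + u')) = _ + _
        rw [ratVec_add, polar_add_right])
      map_smul' := fun c u => Subtype.ext (by
        show polar Q v (ρR (c • u)) = (c : F) * _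
        rw [ratVec_smul, polar_smul_right, smul_eq_mul]) }
  refine ⟨(LinearMap.BilinForm.toDual D.rBil D.rBil_nondeg).symm φ, sub_eq_zero.mp (D.eq_zero_of_rat fun u => ?_)⟩
  have h : D.rp ((LinearMap.BilinForm.toDual D.rBil D.rBil_nondeg).symm φ) u = φ u := by
    rw [← D.rBil_apply, LinearMap.BilinForm.apply_toDual_symm_apply]
  rw [polar_sub_right, polar_comm, polar_comm (⇑Q) (ρR u), D.polar_rat_eq h]
  exact sub_self _

theorem rat_indep_of_dual {a b : Ks} (hli : LinearIndependent K ![a, b]) {α β : F}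
    (h : β • ρR a - α • ρR b = 0) : α = 0 := by
  obtain ⟨r, hr⟩ := D.exists_dual hli ![0, 1]
  have h1 := congrArg (fun z => polar Q z (ρR r)) h
  simp only [polar_sub_right, polar_smul_right, polar_comm (⇑Q) _ (ρR r), D.polar_rat_zero (show D.rp r a = 0 from hr 0),
    D.polar_rat_one (show D.rp r b = 1 from hr 1), polar_zero_right, smul_eq_mul] at h1
  simpa using h1

theorem pi2_ne_zero {g : Vs ≃ₗ[F] Vs} {a b : Ks} (hli : LinearIndependent K ![a, b]) :
    ¬ ∀ u v : Ks, pi2 Q (g (ρR a)) (g (ρR b)) (ρR u) (ρR v) = 0 := by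
  intro hall
  obtain ⟨u₀, hu₀⟩ : ∃ u₀, polar Q (g (ρR a)) (ρR u₀) ≠ 0 := by
    by_contra hno
    push Not at hno
    have h0 := D.eq_zero_of_rat fun u => (polar_comm (⇑Q) _ _).trans (hno u)
    rw [map_eq_zero_iff _ g.injective, ratVec_eq_zero] at h0
    rw [LinearIndependent.pair_iff] at hli
    exact one_ne_zero (hli 1 0 (by simp [h0])).1
  apply hu₀
  refine D.rat_indep_of_dual hli (β := polar Q (g (ρR b)) (ρR u₀)) ?_
  apply g.injective
  rw [map_zero, map_sub, map_smul, map_smul]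
  refine D.eq_zero_of_rat fun v => ?_
  have h := hall u₀ v
  simp only [pi2] at h
  rw [polar_comm]
  simp only [polar_sub_left, polar_smul_left, smul_eq_mul]
  linear_combination -h

theorem exists_plane {w y : Vs} (hr : IsRatPair Q K P w y)
    (hne : ¬ ∀ u v : Ks, pi2 Q w y (ρR u) (ρR v) = 0) :
    ∃ (c₁ c₂ : Ks) (α₁ α₂ β₁ β₂ : F), w = α₁ • ρR c₁ + α₂ • ρR c₂ ∧ y = β₁ • ρR c₁ + β₂ • ρR c₂ := by
  push Not at hne
  obtain ⟨s, a, hp⟩ := hne
  obtain ⟨c₁, h1⟩ := D.exists_rep (v := polar Q w (ρR s) • y - polar Q y (ρR s) • w) fun u => by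
    rw [polar_sub_left, polar_smul_left, polar_smul_left]; exact hr s u
  obtain ⟨c₂, h2⟩ := D.exists_rep (v := polar Q w (ρR a) • y - polar Q y (ρR a) • w) fun u => by
    rw [polar_sub_left, polar_smul_left, polar_smul_left]; exact hr a u
  set p := pi2 Q w y (ρR s) (ρR a) with hpdef
  refine ⟨c₁, c₂, polar Q w (ρR a) / p, -(polar Q w (ρR s)) / p, polar Q y (ρR a) / p, -(polar Q y (ρR s)) / p,
    ?_, ?_⟩
  · refine (smul_right_inj hp).mp ?_
    rw [← h1, ← h2, smul_add, smul_smul, smul_smul, mul_div_cancel₀ _ hp, mul_div_cancel₀ _ hp, hpdef, pi2]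
    module
  · refine (smul_right_inj hp).mp ?_
    rw [← h1, ← h2, smul_add, smul_smul, smul_smul, mul_div_cancel₀ _ hp, mul_div_cancel₀ _ hp, hpdef, pi2]
    module

theorem line_of_planes {x : Vs} {c c' d d' : Ks} {α α' δ δ' : F} (hc : x = α • ρR c + α' • ρR c')
    (hd : x = δ • ρR d + δ' • ρR d') (hnot : c ∉ Submodule.span K (Set.range ![d, d'])) :
    ∃ (l : F) (v : Ks), x = l • ρR v := by
  obtain ⟨φ, hφc, hφ⟩ := Submodule.exists_dual_map_eq_bot_of_notMem hnot inferInstance
  set r := (LinearMap.BilinForm.toDual D.rBil D.rBil_nondeg).symm φ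
  have hr : ∀ v, D.rp r v = φ v := fun v => by rw [← D.rBil_apply, LinearMap.BilinForm.apply_toDual_symm_apply]
  have hφ0 : ∀ v ∈ Submodule.span K (Set.range ![d, d']), φ v = 0 := fun v hv => by
    have h : φ v ∈ (Submodule.span K (Set.range ![d, d'])).map φ := Submodule.mem_map_of_mem hv
    rw [hφ] at h
    simpa using h
  have e := congrArg (fun z => polar Q z (ρR r)) (hc.symm.trans hd)
  have key : ∀ v, polar Q (ρR v) (ρR r) = (φ v : F) := fun v => by rw [polar_comm, D.polar_rat_eq (hr v)]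
  simp only [polar_add_left, polar_smul_left, key, hφ0 d (Submodule.subset_span ⟨0, rfl⟩),
    hφ0 d' (Submodule.subset_span ⟨1, rfl⟩), ZeroMemClass.coe_zero, smul_eq_mul, mul_zero, add_zero] at e
  refine ⟨α', c' - (φ c' / φ c) • c, ?_⟩
  have hc0 : (φ c : F) ≠ 0 := fun e0 => hφc (Subtype.ext e0)
  rw [hc, ratVec_sub, ratVec_smul, smul_sub, smul_smul]
  have hα : α = -(α' * ((φ c' / φ c : K) : F)) := by
    push_cast
    field_simp
    linear_combination e
  rw [hα]
  module

theorem exists_nonRatPair (hO : Over D M) (hn : 13 ≤ Fintype.card ι) {g : Vs ≃ₗ[F] Vs} (hg : g ∈ M)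
    (hgK : ¬ ∃ l : F, l ≠ 0 ∧ ∀ u : Ks, ∃ v : Ks, g (ρR u) = l • ρR v) :
    ∃ a b : Ks, D.rQ a = 0 ∧ D.rQ b = 0 ∧ D.rp a b = 0 ∧ LinearIndependent K ![a, b] ∧
      ¬ IsRatPair Q K P (g (ρR a)) (g (ρR b)) := by
  by_contra hno
  push Not at hno
  have hline : ∀ a : Ks, D.rQ a = 0 → a ≠ 0 → ∃ (l : F) (v : Ks), g (ρR a) = l • ρR v := by
    intro a ha ha0
    obtain ⟨b, hb, hbb, hbS⟩ := D.exists_sing_perp_notMem ![a] (Submodule.span K {a}) (by omega)
      (by rw [finrank_span_singleton ha0]; omega)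
    obtain ⟨c, hc, hcc, hcS⟩ := D.exists_sing_perp_notMem ![a] (Submodule.span K (Set.range ![a, b])) (by omega)
      (by have := OData.finrank_span_fin_le (K := K) ![a, b]; omega)
    have hlab := OData.indep_two ha0 hbS
    have hlac : LinearIndependent K ![a, c] := OData.indep_two ha0 fun h => hcS (Submodule.span_mono (by simp) h)
    obtain ⟨c₁, c₂, α₁, α₂, β₁, β₂, hw, hy⟩ := D.exists_plane (hno a b ha hbb ((D.rp_comm a b).trans (hb 0)) hlab)
      (D.pi2_ne_zero hlab)
    obtain ⟨d₁, d₂, γ₁, γ₂, ε₁, ε₂, hw', hy'⟩ := D.exists_plane (hno a c ha hcc ((D.rp_comm a c).trans (hc 0)) hlac)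
      (D.pi2_ne_zero hlac)
    by_cases h1 : c₁ ∈ Submodule.span K (Set.range ![d₁, d₂])
    swap
    · exact D.line_of_planes hw hw' h1
    by_cases h2 : c₂ ∈ Submodule.span K (Set.range ![d₁, d₂])
    swap
    · exact D.line_of_planes (hw.trans (add_comm _ _)) hw' h2
    exfalso
    set W := Submodule.span F (Set.range ![ρR d₁, ρR d₂]) with hW
    have hmem : ∀ v ∈ Submodule.span K (Set.range ![d₁, d₂]), ρR v ∈ W := by
      intro v hv
      obtain ⟨x, rfl⟩ := (Submodule.mem_span_range_iff_exists_fun K).mp hv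
      rw [Fin.sum_univ_two, ratVec_add, ratVec_smul, ratVec_smul]
      exact W.add_mem (W.smul_mem _ (Submodule.subset_span ⟨0, rfl⟩)) (W.smul_mem _ (Submodule.subset_span ⟨1, rfl⟩))
    have hli3 : LinearIndependent K ![c, a, b] := linearIndependent_finCons.mpr ⟨hlab, hcS⟩
    have hliF : LinearIndependent F ![g (ρR c), g (ρR a), g (ρR b)] := by
      have h0 : LinearIndependent F ![ρR c, ρR a, ρR b] := by
        rw [Fintype.linearIndependent_iff]
        intro x hx
        rw [Fin.sum_univ_three] at hx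
        intro i
        obtain ⟨r, hr⟩ := D.exists_dual hli3 (Pi.single i 1)
        have h := congrArg (fun z => polar Q z (ρR r)) hx
        have key : ∀ v (k : K), D.rp r v = k → polar Q (ρR v) (ρR r) = (k : F) := fun v k h => by
          rw [polar_comm, D.polar_rat_eq h]
        have k0 := key c _ (hr 0)
        have k1 := key a _ (hr 1)
        have k2 := key b _ (hr 2)
        simp only [Matrix.cons_val_zero, Matrix.cons_val_one, Matrix.cons_val_two, Matrix.head_cons, Matrix.tail_cons,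
          polar_add_left, polar_smul_left, k0, k1, k2, polar_zero_left, smul_eq_mul] at h
        fin_cases i <;> simpa using h
      have h1 := h0.map' g.toLinearMap g.ker
      rw [show ![g (ρR c), g (ρR a), g (ρR b)] = ⇑g.toLinearMap ∘ ![ρR c, ρR a, ρR b] by
        funext i; fin_cases i <;> rfl]
      exact h1
    have hsub : Submodule.span F (Set.range ![g (ρR c), g (ρR a), g (ρR b)]) ≤ W := by
      refine Submodule.span_le.mpr ?_
      rintro _ ⟨i, rfl⟩
      fin_cases i
      · show g (ρR c) ∈ W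
        rw [hy']
        exact W.add_mem (W.smul_mem _ (Submodule.subset_span ⟨0, rfl⟩)) (W.smul_mem _ (Submodule.subset_span ⟨1, rfl⟩))
      · show g (ρR a) ∈ W
        rw [hw]
        exact W.add_mem (W.smul_mem _ (hmem _ h1)) (W.smul_mem _ (hmem _ h2))
      · show g (ρR b) ∈ W
        rw [hy]
        exact W.add_mem (W.smul_mem _ (hmem _ h1)) (W.smul_mem _ (hmem _ h2))
    have h3 := Submodule.finrank_mono hsub
    rw [finrank_span_eq_card hliF, Fintype.card_fin] at h3
    have h4 : Module.finrank F W ≤ 2 := by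
      simpa [Set.finrank, hW] using finrank_range_le_card (R := F) ![ρR d₁, ρR d₂]
    omega
  choose l v hlv using hline
  have hl0 : ∀ a ha ha0, l a ha ha0 ≠ 0 := fun a ha ha0 e => by
    have h := hlv a ha ha0
    rw [e, zero_smul, map_eq_zero_iff _ g.injective, ratVec_eq_zero] at h
    exact ha0 h
  have hprod : ∀ a b (ha : D.rQ a = 0) (hb : D.rQ b = 0) (ha0 : a ≠ 0) (hb0 : b ≠ 0), D.rp a b = 0 →
      LinearIndependent K ![a, b] → l a ha ha0 * l b hb hb0 ∈ K := by
    intro a b ha hb ha0 hb0 hab hli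
    have hrat := hno a b ha hb hab hli
    have hne := D.pi2_ne_zero (g := g) hli
    push Not at hne
    obtain ⟨u, u', hp⟩ := hne
    rw [hlv a ha ha0, hlv b hb hb0] at hp hrat
    have e : ∀ x x' : Vs, pi2 Q (l a ha ha0 • ρR (v a ha ha0)) (l b hb hb0 • ρR (v b hb hb0)) x x'
        = l a ha ha0 * l b hb hb0 * pi2 Q (ρR (v a ha ha0)) (ρR (v b hb hb0)) x x' := fun x x' => by
      simp only [pi2, polar_smul_left, smul_eq_mul]; ring
    have h1 := hrat u u'
    rw [e] at hp h1
    rw [← mul_div_cancel_right₀ (l a ha ha0 * l b hb hb0) (right_ne_zero_of_mul hp)]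
    exact K.div_mem h1 (K.sub_mem (K.mul_mem (D.mem_polar _ _) (D.mem_polar _ _))
      (K.mul_mem (D.mem_polar _ _) (D.mem_polar _ _)))
  obtain ⟨e, -, he, heS⟩ := D.exists_sing_perp_notMem (![] : Fin 0 → Ks) ⊥ (by omega) (by rw [finrank_bot]; omega)
  have he0 := OData.ne_zero_of_notMem heS
  have key : ∀ a (ha : D.rQ a = 0) (ha0 : a ≠ 0), l a ha ha0 / l e he he0 ∈ K := by
    intro a ha ha0
    obtain ⟨c, hc, hcc, hcS⟩ := D.exists_sing_perp_notMem ![a, e] (Submodule.span K (Set.range ![a, e])) (by omega)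
      (by have := OData.finrank_span_fin_le (K := K) ![a, e]; omega)
    have hc0 := OData.ne_zero_of_notMem hcS
    have h1 := hprod a c ha hcc ha0 hc0 ((D.rp_comm a c).trans (hc 0))
      (OData.indep_two ha0 fun h => hcS (Submodule.span_mono (by simp) h))
    have h2 := hprod e c he hcc he0 hc0 ((D.rp_comm e c).trans (hc 1))
      (OData.indep_two he0 fun h => hcS (Submodule.span_mono (by simp) h))
    rw [← mul_div_mul_right (l a ha ha0) (l e he he0) (hl0 c hcc hc0)]
    exact K.div_mem h1 h2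
  let S : Submodule K Ks :=
    { carrier := {u | ∃ v : Ks, g (ρR u) = l e he he0 • ρR v}
      add_mem' := by
        rintro a b ⟨va, ha⟩ ⟨vb, hb⟩
        exact ⟨va + vb, by rw [ratVec_add, map_add, ha, hb, ratVec_add, smul_add]⟩
      zero_mem' := ⟨0, by rw [ratVec_zero, map_zero, smul_zero]⟩
      smul_mem' := by
        rintro k a ⟨va, ha⟩
        exact ⟨k • va, by rw [ratVec_smul, map_smul, ha, ratVec_smul, smul_comm]⟩ }
  refine hgK ⟨l e he he0, hl0 e he he0, fun u => D.sing_perp_mem (![] : Fin 0 → Ks) (by omega) S (fun x _ hx => ?_)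
    (fun i => i.elim0)⟩
  by_cases hx0 : x = 0
  · subst hx0; exact S.zero_mem
  refine ⟨(⟨_, key x hx hx0⟩ : K) • v x hx hx0, ?_⟩
  rw [hlv x hx hx0, ratVec_smul, smul_smul, mul_div_cancel₀ _ (hl0 e he he0)]

theorem good_of_not_stab (hO : Over D M) (hn : 13 ≤ Fintype.card ι) (r : ℕ) (hr : r.Prime)
    (hcard : Nat.card F = Nat.card K ^ r) {g : Vs ≃ₗ[F] Vs} (hg : g ∈ M)
    (hgK : ¬ ∃ l : F, l ≠ 0 ∧ ∀ u : Ks, ∃ v : Ks, g (ρR u) = l • ρR v) (x : F) : Good D M x := by
  obtain ⟨c, hgood, hc⟩ : ∃ c, Good D M c ∧ c ∉ K := by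
    by_contra hno
    push Not at hno
    obtain ⟨a, b, ha, hb, hab, hli, hrat⟩ := D.exists_nonRatPair hO hn hg hgK
    have hp : RootPair Q M (g (ρR a)) (g (ρR b)) :=
      ⟨by rw [hO.iso g hg, D.Q_rat_zero ha], by rw [hO.iso g hg, D.Q_rat_zero hb],
        by rw [Classical.isometry_polar (hO.iso g hg), D.polar_rat_zero hab],
        hasRoot_conj hO.iso hg (hO.rat a b ha hb hab)⟩
    obtain ⟨t, ht, ht0, htw, hty⟩ := D.exists_kernel_vec hO hn hno hp (D.pi2_ne_zero hli)
    exact hrat (D.isRatPair hO hn hno hp ht ht0 htw hty)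
  exact D.good_all hO hn r hr hcard hc hgood x

theorem hasRoot_all (hn : 13 ≤ Fintype.card ι) (hgood : ∀ x, Good D M x) {f : Ks} (hf0 : f ≠ 0)
    (hf : D.rQ f = 0) {w : Vs} (hw : polar Q w (ρR f) = 0) : HasRoot Q M (ρR f) w := by
  let S : Vs → Prop := fun w => polar Q (ρR f) w = 0 ∧ HasRoot Q M (ρR f) w
  have hadd : ∀ u v, S u → S v → S (u + v) := fun u v hu hv =>
    ⟨by rw [polar_add_right, hu.1, hv.1, add_zero], hasRoot_mul (D.Q_rat_zero hf) hu.1 hv.1 hu.2 hv.2⟩
  have hzero : S 0 := ⟨polar_zero_right _ _, hasRoot_zero_right⟩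
  let T : Submodule K Ks :=
    { carrier := {u | ∀ y : F, S (y • ρR u)}
      add_mem' := fun {u v} hu hv y => by
        rw [ratVec_add, smul_add]
        exact hadd _ _ (hu y) (hv y)
      zero_mem' := fun y => by rw [ratVec_zero, smul_zero]; exact hzero
      smul_mem' := fun k u hu y => by
        rw [ratVec_smul, smul_smul]
        exact hu _ }
  have hT : ∀ u, D.rp u f = 0 → ∀ y : F, S (y • ρR u) := fun u hu =>
    D.sing_perp_mem ![f] (by omega) T (fun x hx hxx y =>
      ⟨by rw [polar_smul_right, D.polar_rat_zero ((D.rp_comm f x).trans (hx 0)), smul_zero],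
        hgood y f x hf hxx ((D.rp_comm f x).trans (hx 0))⟩) (fun i => by fin_cases i; exact hu)
  obtain ⟨e, he⟩ := D.exists_dual (u := ![f]) (linearIndependent_unique_iff.mpr (by simpa using hf0)) ![1]
  have hef : D.rp e f = 1 := he 0
  set E : ι → Ks := fun i => Pi.single i 1
  set co := ((P⁻¹ : GL ι F) : Matrix ι ι F) *ᵥ w
  have hwsum : w = ∑ i, co i • ρR (E i - D.rp (E i) f • e) := by
    have h0 : w = ∑ i, co i • ρR (E i) := eq_sum_ratVec w
    have h1 : ∑ i, co i * polar Q (ρR (E i)) (ρR f) = 0 := by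
      have h := congrArg ((QuadraticMap.polarBilin Q).flip (ρR f)) h0
      rw [map_sum] at h
      simp only [map_smul, smul_eq_mul] at h
      change polar Q w (ρR f) = ∑ i, co i * polar Q (ρR (E i)) (ρR f) at h
      rw [← h, hw]
    simp only [ratVec_sub, ratVec_smul, smul_sub, smul_smul, coe_rp]
    rw [Finset.sum_sub_distrib, ← Finset.sum_smul, h1, zero_smul, sub_zero, ← h0]
  rw [hwsum]
  refine (Finset.sum_induction _ S hadd hzero fun i _ => hT _ ?_ _).2
  rw [D.rp_sub_left, D.rp_smul_left, hef, mul_one, sub_self]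

theorem commutator_mem (hn : 13 ≤ Fintype.card ι) (hgood : ∀ x, Good D M x) {a b : Vs ≃ₗ[F] Vs}
    (ha : a ∈ Classical.isoGroup ⇑Q) (hb : b ∈ Classical.isoGroup ⇑Q) : a * b * a⁻¹ * b⁻¹ ∈ M := by
  obtain ⟨e, -, hee, heS⟩ := D.exists_sing_perp_notMem (![] : Fin 0 → Ks) ⊥ (by omega) (by rw [finrank_bot]; omega)
  have he0 := OData.ne_zero_of_notMem heS
  obtain ⟨f, hff, hf⟩ := D.exists_sing_dual (u := ![e]) (linearIndependent_unique_iff.mpr (by simpa using he0))
    (fun i => by fin_cases i; exact hee) (fun i j => by fin_cases i; fin_cases j; exact D.rp_self_zero hee)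
    ![1] 0 one_ne_zero
  have hfe : D.rp f e = 1 := hf 0
  have hf0 : f ≠ 0 := fun e0 => by rw [e0, D.rp_zero_left] at hfe; exact zero_ne_one hfe
  obtain ⟨u, v, hu, hv, huu, hvu⟩ := D.exists_hyp_perp ![e, f] (by omega)
  obtain ⟨x, hx⟩ := D.exists_sing_adjust huu (f := (D.rp v u)⁻¹ • v)
    (by rw [D.rp_smul_left, inv_mul_cancel₀ hvu]; exact one_ne_zero)
  set v' := (D.rp v u)⁻¹ • v + x • u with hv'
  set E := ρR e with hE
  set Fv := ρR f with hFv
  have qE : Q E = 0 := D.Q_rat_zero hee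
  have qF : Q Fv = 0 := D.Q_rat_zero hff
  have pFE : polar Q Fv E = 1 := D.polar_rat_one hfe
  have pEF : polar Q E Fv = 1 := by rw [polar_comm, pFE]
  have pEE : polar Q E E = 0 := by rw [polar_self, qE, smul_zero]
  have pFF : polar Q Fv Fv = 0 := by rw [polar_self, qF, smul_zero]
  let W : Submodule F Vs := ((QuadraticMap.polarBilin Q).flip E).ker ⊓ ((QuadraticMap.polarBilin Q).flip Fv).ker
  have memW : ∀ z, z ∈ W ↔ polar Q z E = 0 ∧ polar Q z Fv = 0 := fun z => Iff.rfl
  let Q' : QuadraticForm F W := Q.comp W.subtype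
  have hQ' : ∀ z : W, Q' z = Q (z : Vs) := fun z => rfl
  have hp' : ∀ z z' : W, polar Q' z z' = polar Q (z : Vs) (z' : Vs) := fun z z' => rfl
  let φ : (F × F × W) ≃ₗ[F] Vs :=
    { toFun := fun p => p.1 • E + p.2.1 • Fv + (p.2.2 : Vs)
      invFun := fun x => (polar Q x Fv, polar Q x E, ⟨x - polar Q x Fv • E - polar Q x E • Fv, by
        rw [memW]
        simp [polar_sub_left, polar_smul_left, pEE, pFF, pEF, pFE]⟩)
      map_add' := fun p q => by simp only [Prod.fst_add, Prod.snd_add, Submodule.coe_add, add_smul]; abel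
      map_smul' := fun c p => by
        simp only [Prod.smul_fst, Prod.smul_snd, Submodule.coe_smul, RingHom.id_apply, smul_add, smul_smul, smul_eq_mul]
      left_inv := fun p => by
        obtain ⟨h1, h2⟩ := (memW _).mp p.2.2.2
        refine Prod.ext ?_ (Prod.ext ?_ (Subtype.ext ?_))
        · simp [polar_add_left, polar_smul_left, pEF, pFF, h2]
        · simp [polar_add_left, polar_smul_left, pEE, pFE, h1]
        · simp [polar_add_left, polar_smul_left, pEF, pFF, h2, pEE, pFE, h1]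
          abel
      right_inv := fun x => by simp }
  have hφ : ∀ p, φ p = p.1 • E + p.2.1 • Fv + (p.2.2 : Vs) := fun p => rfl
  have hQφ : ∀ p, Q (φ p) = Classical.hypExt Q' p := fun p => by
    obtain ⟨h1, h2⟩ := (memW _).mp p.2.2.2
    rw [hφ, QuadraticMap.map_add (⇑Q), QuadraticMap.map_add (⇑Q), QuadraticMap.map_smul, QuadraticMap.map_smul,
      polar_add_left, polar_smul_left, polar_smul_left, polar_smul_left, polar_smul_right, qE, qF, pEF,
      polar_comm (⇑Q) E, h1, polar_comm (⇑Q) Fv, h2, Classical.hypExt_apply, hQ']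
    simp
  have huW : ∀ z : Ks, D.rp z e = 0 → D.rp z f = 0 → ρR z ∈ W := fun z h1 h2 =>
    (memW _).mpr ⟨D.polar_rat_zero h1, D.polar_rat_zero h2⟩
  have hnd : Classical.IsotropicNondeg Q' ⟨ρR u, huW u (hu 0) (hu 1)⟩ ⟨ρR v', huW v'
      (by rw [hv', D.rp_add_left, D.rp_smul_left, D.rp_smul_left, show D.rp v e = 0 from hv 0,
        show D.rp u e = 0 from hu 0]; ring)
      (by rw [hv', D.rp_add_left, D.rp_smul_left, D.rp_smul_left, show D.rp v f = 0 from hv 1,
        show D.rp u f = 0 from hu 1]; ring)⟩ := by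
    refine ⟨fun z hz => ?_, D.Q_rat_zero huu, D.Q_rat_zero hx, ?_⟩
    · refine Subtype.ext (D.nondeg _ fun y => ?_)
      obtain ⟨h1, h2⟩ := (memW _).mp z.2
      obtain ⟨p, rfl⟩ := φ.surjective y
      rw [hφ, polar_add_right, polar_add_right, polar_smul_right, polar_smul_right, h1, h2, ← hp', hz]
      simp
    · rw [hp']
      exact D.polar_rat_one (by
        rw [hv', D.rp_add_right, D.rp_smul_right, D.rp_smul_right, D.rp_comm u v, inv_mul_cancel₀ hvu,
          D.rp_self_zero huu, mul_zero, add_zero])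
  have hle : Classical.eichlerGroup Q' ≤ M.comap (Classical.autConj φ).toMonoidHom := by
    rw [Classical.eichlerGroup, Subgroup.closure_le]
    rintro _ (⟨z, rfl⟩ | ⟨z, rfl⟩) <;> obtain ⟨z1, z2⟩ := (memW _).mp z.2
    · obtain ⟨g, hg, eg⟩ := D.hasRoot_all hn hgood he0 hee (w := -(z : Vs)) (by rw [polar_neg_left, z1, neg_zero])
      show Classical.autConj φ (Classical.hypSiegel Q' z) ∈ M
      convert hg using 1
      refine LinearEquiv.ext fun y => ?_
      obtain ⟨p, rfl⟩ := φ.surjective y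
      obtain ⟨h1, h2⟩ := (memW _).mp p.2.2.2
      rw [Classical.autConj_apply, LinearEquiv.symm_apply_apply, eg, Classical.hypSiegel_apply, hφ, hφ, hp', hQ']
      simp only [Submodule.coe_add, Submodule.coe_smul, QuadraticMap.map_neg, polar_add_left, polar_smul_left,
        polar_neg_right, ← hE, pEE, pFE, h1, polar_comm (⇑Q) E (z : Vs), z1, polar_comm (⇑Q) Fv (z : Vs), z2,
        polar_comm (⇑Q) (z : Vs) (p.2.2 : Vs), smul_eq_mul]
      match_scalars <;> ring
    · obtain ⟨g, hg, eg⟩ := D.hasRoot_all hn hgood hf0 hff (w := -(z : Vs)) (by rw [polar_neg_left, z2, neg_zero])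
      show Classical.autConj φ (Classical.hypSiegel' Q' z) ∈ M
      convert hg using 1
      refine LinearEquiv.ext fun y => ?_
      obtain ⟨p, rfl⟩ := φ.surjective y
      obtain ⟨h1, h2⟩ := (memW _).mp p.2.2.2
      rw [Classical.autConj_apply, LinearEquiv.symm_apply_apply, eg, Classical.hypSiegel'_apply, hφ, hφ, hp', hQ']
      simp only [Submodule.coe_add, Submodule.coe_smul, QuadraticMap.map_neg, polar_add_left, polar_smul_left,
        polar_neg_right, ← hFv, pFF, pEF, h2, polar_comm (⇑Q) E (z : Vs), z1, polar_comm (⇑Q) Fv (z : Vs), z2,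
        polar_comm (⇑Q) (z : Vs) (p.2.2 : Vs), smul_eq_mul]
      match_scalars <;> ring
  have conjMem : ∀ {c : Vs ≃ₗ[F] Vs}, c ∈ Classical.isoGroup ⇑Q →
      Classical.autConj φ.symm c ∈ Classical.isoGroup ⇑(Classical.hypExt Q') := fun {c} hc p => by
    rw [Classical.autConj_apply, ← hQφ, LinearEquiv.apply_symm_apply, LinearEquiv.symm_symm, hc, hQφ]
  have h := hle (Classical.commutator_mem_eichler hnd
    (Or.inr (by rw [φ.finrank_eq, Module.finrank_fintype_fun_eq_card]; omega)) (conjMem ha) (conjMem hb))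
  rw [Subgroup.mem_comap, map_mul, map_mul, map_mul, map_inv, map_inv] at h
  have hcancel : ∀ c, (Classical.autConj φ).toMonoidHom (Classical.autConj φ.symm c) = c := fun c =>
    LinearEquiv.ext fun y => by simp [Classical.autConj_apply]
  rwa [hcancel, hcancel] at h

/-- A rational long root element is a commutator of isometries. -/
theorem exists_root_commutator (hn : 13 ≤ Fintype.card ι) {a b : Ks} (ha : D.rQ a = 0) (hb : D.rQ b = 0)
    (hab : D.rp a b = 0) (k : F) :
    ∃ X Y : Vs ≃ₗ[F] Vs, X ∈ Classical.isoGroup ⇑Q ∧ Y ∈ Classical.isoGroup ⇑Q ∧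
      ∀ z, (X * Y * X⁻¹ * Y⁻¹) z = z + polar Q z (k • ρR b) • ρR a - polar Q z (ρR a) • (k • ρR b)
        - (Q (k • ρR b) * polar Q z (ρR a)) • ρR a := by
  obtain ⟨t, s, ht, hs, htt, hst⟩ := D.exists_hyp_perp ![a, b] (by omega)
  obtain ⟨x, hx⟩ := D.exists_sing_adjust htt (f := (D.rp s t)⁻¹ • s)
    (by rw [D.rp_smul_left, inv_mul_cancel₀ hst]; exact one_ne_zero)
  set t' := (D.rp s t)⁻¹ • s + x • t with ht'
  have h't : D.rp t' t = 1 := by
    rw [ht', D.rp_add_left, D.rp_smul_left, D.rp_smul_left, inv_mul_cancel₀ hst, D.rp_self_zero htt, mul_zero,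
      add_zero]
  have h'a : D.rp t' a = 0 := by
    rw [ht', D.rp_add_left, D.rp_smul_left, D.rp_smul_left, show D.rp s a = 0 from hs 0,
      show D.rp t a = 0 from ht 0]; ring
  have h'b : D.rp t' b = 0 := by
    rw [ht', D.rp_add_left, D.rp_smul_left, D.rp_smul_left, show D.rp s b = 0 from hs 1,
      show D.rp t b = 0 from ht 1]; ring
  have qa : Q (ρR a) = 0 := D.Q_rat_zero ha
  have qb : Q (ρR b) = 0 := D.Q_rat_zero hb
  have qt : Q (ρR t) = 0 := D.Q_rat_zero htt
  have qt' : Q (ρR t') = 0 := D.Q_rat_zero hx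
  have pbt : polar Q (ρR b) (ρR t) = 0 := D.polar_rat_zero ((D.rp_comm b t).trans (ht 1))
  have pat' : polar Q (ρR a) (ρR t') = 0 := D.polar_rat_zero ((D.rp_comm a t').trans h'a)
  have pba : polar Q (ρR b) (ρR a) = 0 := D.polar_rat_zero ((D.rp_comm b a).trans hab)
  have ptt' : polar Q (ρR t') (ρR t) = 1 := D.polar_rat_one h't
  have pbt' : polar Q (ρR b) (ρR t') = 0 := D.polar_rat_zero ((D.rp_comm b t').trans h'b)
  set X := Classical.eichlerEquiv Q (ρR b) (ρR t) qb pbt with hX
  set Y := Classical.eichlerEquiv Q (ρR a) (k • ρR t') qa (by rw [polar_smul_right, pat', smul_zero]) with hY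
  refine ⟨X, Y, Classical.eichlerEquiv_mem _ _ _ _ _, Classical.eichlerEquiv_mem _ _ _ _ _, fun z => ?_⟩
  have e1 : X (k • ρR t') = k • ρR t' + k • ρR b := by
    rw [hX, Classical.eichlerEquiv_apply, polar_smul_left, polar_smul_left, ptt', polar_comm (⇑Q) (ρR t'), pbt', qt]
    module
  have e2 : X (ρR a) = ρR a := by
    rw [hX, Classical.eichlerEquiv_apply, D.polar_rat_zero ((D.rp_comm a t).trans (ht 0)), polar_comm (⇑Q) (ρR a),
      pba]
    module
  have hconj := Classical.eichlerEquiv_conj Q (ρR a) (k • ρR t') qa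
    (by rw [polar_smul_right, pat', smul_zero]) (g := X) (Classical.eichlerEquiv_mem _ _ _ _ _)
  rw [← hY] at hconj
  rw [LinearEquiv.mul_apply, hconj]
  obtain ⟨y, rfl⟩ := Y.surjective z
  rw [show Y⁻¹ (Y y) = y from Y.symm_apply_apply y, Classical.eichlerEquiv_apply, e1, e2, hY,
    Classical.eichlerEquiv_apply]
  simp only [polar_add_left, polar_sub_left, polar_smul_left, polar_add_right, polar_smul_right,
    QuadraticMap.map_add (⇑Q), QuadraticMap.map_smul, polar_self, qa, qb, qt', pba, polar_comm (⇑Q) (ρR a) (ρR b),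
    pat', polar_comm (⇑Q) (ρR t') (ρR a), pbt', polar_comm (⇑Q) (ρR t') (ρR b), smul_zero, smul_eq_mul]
  match_scalars <;> ring

/-- A root element with scalar outside `K` moves the rational lines. -/
theorem not_stab_root {g : Vs ≃ₗ[F] Vs} {a b : Ks} (hli : LinearIndependent K ![a, b]) (ha : D.rQ a = 0)
    (hb : D.rQ b = 0) (hab : D.rp a b = 0) {k : F} (hk : k ∉ K)
    (hg : ∀ z, g z = z + polar Q z (k • ρR b) • ρR a - polar Q z (ρR a) • (k • ρR b)
      - (Q (k • ρR b) * polar Q z (ρR a)) • ρR a) :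
    ¬ ∃ l : F, l ≠ 0 ∧ ∀ u : Ks, ∃ v : Ks, g (ρR u) = l • ρR v := by
  rintro ⟨l, -, hl⟩
  obtain ⟨x, hx⟩ := D.exists_dual hli ![0, 1]
  obtain ⟨r, hr⟩ := D.exists_dual hli ![1, 0]
  have ra : polar Q (ρR a) (ρR r) = 1 := by rw [polar_comm]; exact D.polar_rat_one (hr 0)
  obtain ⟨v₁, hv₁⟩ := hl a
  obtain ⟨v₂, hv₂⟩ := hl x
  rw [hg, polar_smul_right, D.polar_rat_zero hab, smul_zero, zero_smul, add_zero, polar_self, D.Q_rat_zero ha,
    smul_zero, zero_smul, sub_zero, mul_zero, zero_smul, sub_zero] at hv₁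
  rw [hg, polar_smul_right, D.polar_rat_one (show D.rp x b = 1 from hx 1),
    D.polar_rat_zero (show D.rp x a = 0 from hx 0), zero_smul, mul_zero, zero_smul, sub_zero, sub_zero, smul_eq_mul,
    mul_one] at hv₂
  have h1 := congrArg (fun z => polar Q z (ρR r)) hv₁
  simp only [ra, polar_smul_left, smul_eq_mul] at h1
  have hlK : l ∈ K := by
    rw [eq_inv_of_mul_eq_one_left h1.symm]
    exact K.inv_mem (D.mem_polar v₁ r)
  have h2 := congrArg (fun z => polar Q z (ρR r)) hv₂
  simp only [polar_add_left, polar_smul_left, ra, smul_eq_mul, mul_one] at h2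
  apply hk
  rw [show k = l * polar Q (ρR v₂) (ρR r) - polar Q (ρR x) (ρR r) by linear_combination h2]
  exact K.sub_mem (K.mul_mem hlK (D.mem_polar v₂ r)) (D.mem_polar x r)

end OData

end Cfsg.Agent.Lib.OrthSubfield
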