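import Cfsg.Agent.Lib.SubfieldMax.Rational
import Cfsg.Agent.Lib.Classical.Eichler

/-!
A rational structure of a quadratic space, in every characteristic: the induced form and its geometry.
-/

set_option autoImplicit false

namespace Cfsg.Agent.Lib.OrthSubfield

open Matrix QuadraticMap Cfsg.Agent.Lib Cfsg.Agent.Lib.SubfieldMax

variable {ι : Type} [Fintype ι] [DecidableEq ι] {F : Type*} [Field F]

/-- A rational structure for a non-degenerate quadratic space. -/
structure OData (Q : QuadraticForm F (ι → F)) (K : Subfield F) (P : GL ι F) : Prop where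
  nondeg : ∀ z, (∀ w, polar Q z w = 0) → z = 0
  mem : ∀ u : ι → K, Q (ratVec K P u) ∈ K

variable {Q : QuadraticForm F (ι → F)} {K : Subfield F} {P : GL ι F}

namespace OData

/-- The form on rational coordinates. -/
def rQ (D : OData Q K P) : QuadraticForm K (ι → K) :=
  QuadraticMap.ofPolar (fun u => ⟨Q (ratVec K P u), D.mem u⟩)
    (fun a u => Subtype.ext (by
      show Q (ratVec K P (a • u)) = (a : F) * a * Q (ratVec K P u)
      rw [ratVec_smul, QuadraticMap.map_smul, smul_eq_mul]))
    (fun u v w => Subtype.ext (by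
      show Q (ratVec K P (u + v + w)) - Q (ratVec K P (u + v)) - Q (ratVec K P w)
        = (Q (ratVec K P (u + w)) - Q (ratVec K P u) - Q (ratVec K P w))
          + (Q (ratVec K P (v + w)) - Q (ratVec K P v) - Q (ratVec K P w))
      rw [ratVec_add, ratVec_add, ratVec_add, ratVec_add]
      exact polar_add_left Q (ratVec K P u) (ratVec K P v) (ratVec K P w)))
    (fun a u w => Subtype.ext (by
      show Q (ratVec K P (a • u + w)) - Q (ratVec K P (a • u)) - Q (ratVec K P w)
        = (a : F) * (Q (ratVec K P (u + w)) - Q (ratVec K P u) - Q (ratVec K P w))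
      rw [ratVec_add, ratVec_add, ratVec_smul]
      exact polar_smul_left Q (a : F) (ratVec K P u) (ratVec K P w)))

/-- The polar form on rational coordinates. -/
def rp (D : OData Q K P) (u v : ι → K) : K := polar D.rQ u v

theorem coe_rQ (D : OData Q K P) (u : ι → K) : (D.rQ u : F) = Q (ratVec K P u) := rfl

theorem coe_rp (D : OData Q K P) (u v : ι → K) :
    (D.rp u v : F) = polar Q (ratVec K P u) (ratVec K P v) := by
  show (Q (ratVec K P (u + v)) - Q (ratVec K P u) - Q (ratVec K P v) : F) = _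
  rw [ratVec_add]
  rfl

theorem mem_polar (D : OData Q K P) (u v : ι → K) : polar Q (ratVec K P u) (ratVec K P v) ∈ K := by
  rw [← D.coe_rp]; exact (D.rp u v).2

theorem Q_rat_zero (D : OData Q K P) {u : ι → K} (h : D.rQ u = 0) : Q (ratVec K P u) = 0 := by
  rw [← D.coe_rQ, h]; rfl

theorem polar_rat_eq (D : OData Q K P) {u v : ι → K} {a : K} (h : D.rp u v = a) :
    polar Q (ratVec K P u) (ratVec K P v) = a := by rw [← D.coe_rp, h]

theorem polar_rat_zero (D : OData Q K P) {u v : ι → K} (h : D.rp u v = 0) :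
    polar Q (ratVec K P u) (ratVec K P v) = 0 := by rw [D.polar_rat_eq h]; rfl

theorem polar_rat_one (D : OData Q K P) {u v : ι → K} (h : D.rp u v = 1) :
    polar Q (ratVec K P u) (ratVec K P v) = 1 := by rw [D.polar_rat_eq h]; rfl

theorem rp_comm (D : OData Q K P) (u v : ι → K) : D.rp u v = D.rp v u := polar_comm _ u v

theorem rp_self (D : OData Q K P) (u : ι → K) : D.rp u u = 2 * D.rQ u := by
  rw [rp, polar_self, two_nsmul, two_mul]

theorem rp_self_zero (D : OData Q K P) {u : ι → K} (h : D.rQ u = 0) : D.rp u u = 0 := by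
  rw [D.rp_self, h, mul_zero]

theorem rp_add_left (D : OData Q K P) (u v w : ι → K) : D.rp (u + v) w = D.rp u w + D.rp v w :=
  polar_add_left D.rQ u v w

theorem rp_add_right (D : OData Q K P) (u v w : ι → K) : D.rp u (v + w) = D.rp u v + D.rp u w :=
  polar_add_right D.rQ u v w

theorem rp_smul_left (D : OData Q K P) (a : K) (u w : ι → K) : D.rp (a • u) w = a * D.rp u w :=
  polar_smul_left D.rQ a u w

theorem rp_smul_right (D : OData Q K P) (a : K) (u w : ι → K) : D.rp u (a • w) = a * D.rp u w :=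
  polar_smul_right D.rQ a u w

theorem rp_sub_left (D : OData Q K P) (u v w : ι → K) : D.rp (u - v) w = D.rp u w - D.rp v w :=
  polar_sub_left D.rQ u v w

theorem rp_sub_right (D : OData Q K P) (u v w : ι → K) : D.rp u (v - w) = D.rp u v - D.rp u w :=
  polar_sub_right D.rQ u v w

theorem rp_zero_left (D : OData Q K P) (w : ι → K) : D.rp 0 w = 0 := polar_zero_left D.rQ w

theorem rQ_add (D : OData Q K P) (u v : ι → K) : D.rQ (u + v) = D.rQ u + D.rQ v + D.rp u v :=
  QuadraticMap.map_add D.rQ u v

theorem rQ_smul (D : OData Q K P) (a : K) (u : ι → K) : D.rQ (a • u) = a * a * D.rQ u := by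
  rw [QuadraticMap.map_smul, smul_eq_mul]

/-- A vector is determined by its products with the rational vectors. -/
theorem eq_zero_of_rat (D : OData Q K P) {z : ι → F} (h : ∀ u : ι → K, polar Q (ratVec K P u) z = 0) :
    z = 0 := by
  have hL : (QuadraticMap.polarBilin Q).flip z = 0 := ext_ratVec (K := K) (P := P) fun u => by
    simpa using h u
  refine D.nondeg z fun w => ?_
  have h1 := LinearMap.congr_fun hL w
  simp only [LinearMap.flip_apply, LinearMap.zero_apply] at h1
  rw [polar_comm]
  exact h1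

/-- The polar form as a bilinear form on rational coordinates. -/
noncomputable def rBil (D : OData Q K P) : LinearMap.BilinForm K (ι → K) := QuadraticMap.polarBilin D.rQ

theorem rBil_apply (D : OData Q K P) (u v : ι → K) : D.rBil u v = D.rp u v := rfl

theorem rnondeg (D : OData Q K P) {z : ι → K} (h : ∀ w, D.rp z w = 0) : z = 0 := by
  rw [← ratVec_eq_zero (P := P)]
  refine D.eq_zero_of_rat fun u => ?_
  rw [polar_comm]
  exact D.polar_rat_zero (h u)

theorem rBil_nondeg (D : OData Q K P) : D.rBil.Nondegenerate :=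
  ⟨fun z hz => D.rnondeg hz, fun z hz => D.rnondeg fun w => by rw [D.rp_comm]; exact hz w⟩

theorem exists_dual (D : OData Q K P) {k : ℕ} {u : Fin k → (ι → K)} (hu : LinearIndependent K u)
    (c : Fin k → K) : ∃ r, ∀ i, D.rp r (u i) = c i := by
  obtain ⟨φ, hφ⟩ : ∃ φ : (ι → K) →ₗ[K] K, ∀ i, φ (u i) = c i := by
    let b := Module.Basis.span hu
    obtain ⟨φ, hφ⟩ := LinearMap.exists_extend (b.constr K c)
    refine ⟨φ, fun i => ?_⟩
    have h1 := LinearMap.congr_fun hφ (b i)
    rw [Module.Basis.constr_basis] at h1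
    simpa [b] using h1
  refine ⟨(LinearMap.BilinForm.toDual D.rBil D.rBil_nondeg).symm φ, fun i => ?_⟩
  rw [← D.rBil_apply, LinearMap.BilinForm.apply_toDual_symm_apply, hφ]

theorem finrank_perp (D : OData Q K P) {k : ℕ} (u : Fin k → (ι → K)) :
    ∃ W : Submodule K (ι → K), (∀ z, z ∈ W ↔ ∀ i, D.rp z (u i) = 0) ∧ Fintype.card ι ≤ Module.finrank K W + k := by
  let L : (ι → K) →ₗ[K] (Fin k → K) := LinearMap.pi fun i => D.rBil.flip (u i)
  refine ⟨L.ker, fun z => ?_, ?_⟩
  · rw [LinearMap.mem_ker]
    exact ⟨fun h i => congrFun h i, fun h => funext h⟩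
  · have h1 := L.finrank_range_add_finrank_ker
    have h2 := Submodule.finrank_le L.range
    rw [Module.finrank_fintype_fun_eq_card] at h1
    rw [Module.finrank_fin_fun] at h2
    omega

theorem exists_perp_notMem (D : OData Q K P) {k : ℕ} (u : Fin k → (ι → K)) (S : Submodule K (ι → K))
    (h : Module.finrank K S + k < Fintype.card ι) : ∃ z, (∀ i, D.rp z (u i) = 0) ∧ z ∉ S := by
  by_contra hno
  push Not at hno
  obtain ⟨W, hW, hd⟩ := D.finrank_perp u
  have h2 := Submodule.finrank_mono (show W ≤ S from fun z hz => hno z ((hW z).mp hz))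
  omega

/-- A subspace of dimension at least three contains a non-zero singular vector. -/
theorem exists_singular_mem [Finite F] (D : OData Q K P) (C : Submodule K (ι → K))
    (h : 3 ≤ Module.finrank K C) : ∃ z ∈ C, z ≠ 0 ∧ D.rQ z = 0 := by
  haveI := Fintype.ofFinite K
  by_contra hno
  push Not at hno
  have cutting : ∀ (k : ℕ), k < 3 → ∀ u : Fin k → (ι → K), ∃ v ∈ C, v ≠ 0 ∧ ∀ i, D.rp v (u i) = 0 := by
    intro k hk u
    let L : C →ₗ[K] (Fin k → K) := LinearMap.pi fun i => (D.rBil.flip (u i)).comp C.subtype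
    have h1 := L.finrank_range_add_finrank_ker
    have h2 := Submodule.finrank_le L.range
    rw [Module.finrank_fin_fun] at h2
    have h3 : L.ker ≠ ⊥ := fun e => by rw [e, finrank_bot] at h1; omega
    obtain ⟨⟨v, hv⟩, hvk, hv0⟩ := Submodule.exists_mem_ne_zero_of_ne_bot h3
    rw [LinearMap.mem_ker] at hvk
    exact ⟨v, hv, fun e => hv0 (Subtype.ext e), fun i => congrFun hvk i⟩
  obtain ⟨x, hx, hx0, -⟩ := cutting 0 (by omega) ![]
  have hxx := hno x hx hx0
  by_cases h2 : (2 : K) = 0
  · haveI : CharP K 2 := CharTwo.of_one_ne_zero_of_two_eq_zero one_ne_zero h2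
    obtain ⟨φ, hφ, hφx⟩ : ∃ φ : (ι → K) →ₗ[K] K, φ x = 1 ∧ True := by
      obtain ⟨i, hi⟩ := Function.ne_iff.mp hx0
      exact ⟨(x i)⁻¹ • LinearMap.proj i, by simp [inv_mul_cancel₀ hi], trivial⟩
    let L : C →ₗ[K] K × K := ((D.rBil.flip x).comp C.subtype).prod (φ.comp C.subtype)
    have h1 := L.finrank_range_add_finrank_ker
    have h3 := Submodule.finrank_le L.range
    rw [Module.finrank_prod, Module.finrank_self] at h3
    have h4 : L.ker ≠ ⊥ := fun e => by rw [e, finrank_bot] at h1; omega
    obtain ⟨⟨y, hy⟩, hyk, hy0⟩ := Submodule.exists_mem_ne_zero_of_ne_bot h4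
    rw [LinearMap.mem_ker] at hyk
    have hyx : D.rp y x = 0 := congrArg Prod.fst hyk
    have hyφ : φ y = 0 := congrArg Prod.snd hyk
    have hy0' : y ≠ 0 := fun e => hy0 (Subtype.ext e)
    obtain ⟨l, hl⟩ := FiniteField.isSquare_of_char_two (ringChar.eq K 2) (D.rQ y / D.rQ x)
    have hl' : D.rQ y = l * l * D.rQ x := by rw [← hl, div_mul_cancel₀ _ hxx]
    refine hno _ (C.add_mem hy (C.smul_mem l hx)) (fun e => ?_) ?_
    · have h5 := congrArg φ e
      rw [map_add, map_smul, hyφ, hφ, map_zero, zero_add, smul_eq_mul, mul_one] at h5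
      exact hy0' (by simpa [h5] using e)
    · rw [D.rQ_add, D.rQ_smul, D.rp_smul_right, hyx, ← hl']
      linear_combination D.rQ y * h2
  · obtain ⟨y, hy, hy0, hyp⟩ := cutting 1 (by omega) ![x]
    have hyy := hno y hy hy0
    have hyx : D.rp y x = 0 := hyp 0
    obtain ⟨z, hz, hz0, hzp⟩ := cutting 2 (by omega) ![x, y]
    have hzx : D.rp z x = 0 := hzp 0
    have hzy : D.rp z y = 0 := hzp 1
    obtain ⟨a, b, hab⟩ := FiniteField.exists_root_sum_quadratic (R := K)
      (f := Polynomial.C (D.rQ x) * Polynomial.X ^ 2 + Polynomial.C (D.rQ z))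
      (g := Polynomial.C (D.rQ y) * Polynomial.X ^ 2)
      (by compute_degree!) (by compute_degree!)
      (FiniteField.odd_card_of_char_ne_two fun e => h2 (by
        haveI := ringChar.of_eq e
        exact CharTwo.two_eq_zero))
    simp only [Polynomial.eval_add, Polynomial.eval_mul, Polynomial.eval_C, Polynomial.eval_pow,
      Polynomial.eval_X] at hab
    refine hno _ (C.add_mem (C.add_mem hz (C.smul_mem a hx)) (C.smul_mem b hy)) (fun e => ?_) ?_
    · have h5 := congrArg (fun v => D.rp v z) e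
      simp only [D.rp_add_left, D.rp_smul_left, D.rp_comm x z, D.rp_comm y z, hzx, hzy, mul_zero, add_zero,
        D.rp_zero_left, D.rp_self] at h5
      exact hno z hz hz0 ((mul_eq_zero.mp h5).resolve_left h2)
    · simp only [D.rQ_add, D.rQ_smul, D.rp_add_left, D.rp_smul_left, D.rp_smul_right, hzx, hzy,
        D.rp_comm x y, hyx, mul_zero, add_zero]
      linear_combination hab

/-- A hyperbolic pair in the perpendicular of a family. -/
theorem exists_hyp_perp [Finite F] (D : OData Q K P) {k : ℕ} (u : Fin k → (ι → K))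
    (h : 2 * k + 3 ≤ Fintype.card ι) :
    ∃ e f, (∀ i, D.rp e (u i) = 0) ∧ (∀ i, D.rp f (u i) = 0) ∧ D.rQ e = 0 ∧ D.rp f e ≠ 0 := by
  obtain ⟨W, hW, hd⟩ := D.finrank_perp u
  set S := Submodule.span K (Set.range u) with hS
  have hk : Module.finrank K S ≤ k := by
    simpa [Set.finrank, hS] using finrank_range_le_card (R := K) u
  obtain ⟨S', hS'⟩ := Submodule.exists_isCompl S
  have h1 := Submodule.finrank_add_eq_of_isCompl hS'
  have h2 := Submodule.finrank_sup_add_finrank_inf_eq W S'
  have h3 := Submodule.finrank_le (W ⊔ S')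
  rw [Module.finrank_fintype_fun_eq_card] at h1 h3
  obtain ⟨e, he, he0, hee⟩ := D.exists_singular_mem (W ⊓ S') (by omega)
  by_contra hno
  push Not at hno
  have hperp : ∀ f, (∀ i, D.rp f (u i) = 0) → D.rp f e = 0 := fun f hf =>
    hno e f ((hW e).mp he.1) hf hee
  apply he0
  -- `e` is then in the span of the family
  have heS : e ∈ S := by
    by_contra heS
    obtain ⟨φ, hφe, hφ⟩ := Submodule.exists_dual_map_eq_bot_of_notMem heS inferInstance
    set f := (LinearMap.BilinForm.toDual D.rBil D.rBil_nondeg).symm φ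
    have hf : ∀ v, D.rp f v = φ v := fun v => by rw [← D.rBil_apply, LinearMap.BilinForm.apply_toDual_symm_apply]
    refine hφe ?_
    rw [← hf]
    refine hperp f fun i => ?_
    rw [hf]
    have : φ (u i) ∈ S.map φ := Submodule.mem_map_of_mem (Submodule.subset_span ⟨i, rfl⟩)
    rw [hφ] at this
    simpa using this
  exact Submodule.disjoint_def.mp hS'.disjoint e heS he.2

/-- Making a vector singular along a singular vector it pairs with. -/
theorem exists_sing_adjust (D : OData Q K P) {e f : ι → K} (he : D.rQ e = 0) (hfe : D.rp f e ≠ 0) :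
    ∃ c : K, D.rQ (f + c • e) = 0 := by
  refine ⟨-(D.rQ f) / D.rp f e, ?_⟩
  rw [D.rQ_add, D.rQ_smul, D.rp_smul_right, he, div_mul_cancel₀ _ hfe]
  ring

/-- The singular vectors of a perpendicular space span it. -/
theorem sing_perp_mem [Finite F] (D : OData Q K P) {k : ℕ} (u : Fin k → (ι → K))
    (h : 2 * k + 3 ≤ Fintype.card ι) (S : Submodule K (ι → K))
    (hS : ∀ x, (∀ i, D.rp x (u i) = 0) → D.rQ x = 0 → x ∈ S) {x : ι → K} (hx : ∀ i, D.rp x (u i) = 0) :
    x ∈ S := by
  obtain ⟨e, f, he0, hf0, he, hfe⟩ := D.exists_hyp_perp u h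
  have heS := hS e he0 he
  have hline : ∀ v, (∀ i, D.rp v (u i) = 0) → D.rp v e ≠ 0 → v ∈ S := by
    intro v hv hve
    obtain ⟨c, hc⟩ := D.exists_sing_adjust he hve
    have hm := hS _ (fun i => by rw [D.rp_add_left, D.rp_smul_left, hv, he0, mul_zero, add_zero]) hc
    simpa using sub_mem hm (S.smul_mem c heS)
  by_cases hxe : D.rp x e = 0
  · have h1 := hline (x + f) (fun i => by rw [D.rp_add_left, hx, hf0, add_zero])
      (by rw [D.rp_add_left, hxe, zero_add]; exact hfe)
    simpa using sub_mem h1 (hline f hf0 hfe)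
  · exact hline x hx hxe

theorem exists_sing_perp_notMem [Finite F] (D : OData Q K P) {k : ℕ} (u : Fin k → (ι → K))
    (S : Submodule K (ι → K)) (h : 2 * k + 3 ≤ Fintype.card ι)
    (h' : Module.finrank K S + k < Fintype.card ι) :
    ∃ x, (∀ i, D.rp x (u i) = 0) ∧ D.rQ x = 0 ∧ x ∉ S := by
  obtain ⟨z, hz, hzS⟩ := D.exists_perp_notMem u S h'
  by_contra hno
  push Not at hno
  exact hzS (D.sing_perp_mem u h S hno hz)

/-- A singular vector with given products with an independent family of singular orthogonal vectors. -/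
theorem exists_sing_dual (D : OData Q K P) {k : ℕ} {u : Fin k → (ι → K)} (hu : LinearIndependent K u)
    (hQ : ∀ i, D.rQ (u i) = 0) (hp : ∀ i j, D.rp (u i) (u j) = 0) (c : Fin k → K) (j : Fin k) (hj : c j ≠ 0) :
    ∃ r, D.rQ r = 0 ∧ ∀ i, D.rp r (u i) = c i := by
  obtain ⟨r, hr⟩ := D.exists_dual hu c
  obtain ⟨x, hx⟩ := D.exists_sing_adjust (hQ j) (f := r) (by rw [hr]; exact hj)
  exact ⟨r + x • u j, hx, fun i => by rw [D.rp_add_left, D.rp_smul_left, hp, hr, mul_zero, add_zero]⟩

theorem indep_two {a b : ι → K} (ha : a ≠ 0) (hb : b ∉ Submodule.span K {a}) : LinearIndependent K ![a, b] := by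
  rw [LinearIndependent.pair_iff' ha]
  exact fun t e => hb (Submodule.mem_span_singleton.mpr ⟨t, e⟩)

theorem indep_three {a b c : ι → K} (hbc : LinearIndependent K ![b, c]) (ha : a ∉ Submodule.span K {b, c}) :
    LinearIndependent K ![a, b, c] := by
  rw [show (![a, b, c] : Fin 3 → ι → K) = Fin.cons a ![b, c] from rfl, linearIndependent_finCons]
  refine ⟨hbc, ?_⟩
  rwa [Matrix.range_cons, Matrix.range_cons, Matrix.range_empty, Set.union_empty, ← Set.insert_eq]

theorem ne_zero_of_notMem {S : Submodule K (ι → K)} {x : ι → K} (h : x ∉ S) : x ≠ 0 :=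
  fun e => h (e ▸ S.zero_mem)

theorem finrank_span_fin_le {k : ℕ} (u : Fin k → (ι → K)) :
    Module.finrank K (Submodule.span K (Set.range u)) ≤ k := by
  simpa [Set.finrank] using finrank_range_le_card (R := K) u

end OData

end Cfsg.Agent.Lib.OrthSubfield
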