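import Cfsg.Agent.Lib.OrthSubfield.Rat

/-!
Root elements inside an overgroup of a rational orthogonal group, and the scalars of such elements.
-/

set_option autoImplicit false

namespace Cfsg.Agent.Lib.OrthSubfield

open Matrix QuadraticMap Cfsg.Agent.Lib Cfsg.Agent.Lib.SubfieldMax

variable {ι : Type} [Fintype ι] [DecidableEq ι] {F : Type*} [Field F] {Q : QuadraticForm F (ι → F)}
  {K : Subfield F} {P : GL ι F} {M : Subgroup ((ι → F) ≃ₗ[F] (ι → F))}

local notation "Vs" => (ι → F)
local notation "Ks" => (ι → K)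
local notation "ρR" => ratVec K P

/-- The subgroup has the Siegel transformation of `u` and `w`. -/
def HasRoot (Q : QuadraticForm F (ι → F)) (M : Subgroup ((ι → F) ≃ₗ[F] (ι → F))) (u w : ι → F) : Prop :=
  ∃ g ∈ M, ∀ x, g x = x + polar Q x w • u - polar Q x u • w - (Q w * polar Q x u) • u

/-- The subgroup consists of isometries and has the rational long root elements. -/
structure Over (D : OData Q K P) (M : Subgroup ((ι → F) ≃ₗ[F] (ι → F))) : Prop where
  iso : ∀ g ∈ M, g ∈ Classical.isoGroup ⇑Q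
  rat : ∀ a b : ι → K, D.rQ a = 0 → D.rQ b = 0 → D.rp a b = 0 → HasRoot Q M (ratVec K P a) (ratVec K P b)

/-- Scalars whose rational long root elements lie in the subgroup. -/
def Good (D : OData Q K P) (M : Subgroup ((ι → F) ≃ₗ[F] (ι → F))) (c : F) : Prop :=
  ∀ a b : ι → K, D.rQ a = 0 → D.rQ b = 0 → D.rp a b = 0 → HasRoot Q M (ratVec K P a) (c • ratVec K P b)

theorem hasRoot_mul {u w w' : Vs} (hu : Q u = 0) (hw : polar Q u w = 0) (hw' : polar Q u w' = 0)
    (h : HasRoot Q M u w) (h' : HasRoot Q M u w') : HasRoot Q M u (w + w') := by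
  obtain ⟨g, hg, e⟩ := h
  obtain ⟨g', hg', e'⟩ := h'
  refine ⟨g * g', M.mul_mem hg hg', fun x => ?_⟩
  have hwu : polar Q w' u = 0 := by rw [polar_comm, hw']
  simp only [LinearEquiv.mul_apply, e, e', polar_add_left, polar_sub_left, polar_smul_left, polar_self, hu,
    hw, hwu, polar_add_right, QuadraticMap.map_add (⇑Q) w w', polar_comm (⇑Q) w' w, smul_zero, smul_eq_mul]
  match_scalars <;> ring

theorem hasRoot_neg {u w : Vs} (hu : Q u = 0) (hw : polar Q u w = 0) (h : HasRoot Q M u w) :
    HasRoot Q M u (-w) := by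
  obtain ⟨g, hg, e⟩ := h
  refine ⟨g⁻¹, M.inv_mem hg, fun x => ?_⟩
  show g.symm x = _
  rw [LinearEquiv.symm_apply_eq, e]
  have hwu : polar Q w u = 0 := by rw [polar_comm, hw]
  simp only [polar_add_left, polar_sub_left, polar_smul_left, polar_neg_left, polar_neg_right, polar_self,
    QuadraticMap.map_neg, hu, hw, hwu, smul_zero, smul_eq_mul]
  match_scalars <;> ring

/-- Two singular orthogonal vectors may be exchanged. -/
theorem hasRoot_swap {u w : Vs} (hu : Q u = 0) (hw : Q w = 0) (h : HasRoot Q M u w) : HasRoot Q M w (-u) := by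
  obtain ⟨g, hg, e⟩ := h
  refine ⟨g, hg, fun x => ?_⟩
  rw [e]
  simp only [polar_neg_right, QuadraticMap.map_neg, hu, hw]
  match_scalars <;> ring

theorem hasRoot_smul {u w : Vs} {k : F} (hw : Q w = 0) :
    HasRoot Q M (k • u) w ↔ HasRoot Q M u (k • w) := by
  refine exists_congr fun g => and_congr_right fun _ => forall_congr' fun x => ?_
  have e : x + polar Q x w • (k • u) - polar Q x (k • u) • w - (Q w * polar Q x (k • u)) • (k • u)
      = x + polar Q x (k • w) • u - polar Q x u • (k • w) - (Q (k • w) * polar Q x u) • u := by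
    simp only [polar_smul_right, QuadraticMap.map_smul, hw, smul_eq_mul]
    match_scalars <;> ring
  rw [e]

theorem hasRoot_conj (hiso : ∀ g ∈ M, g ∈ Classical.isoGroup ⇑Q) {g : Vs ≃ₗ[F] Vs} (hg : g ∈ M) {u w : Vs}
    (h : HasRoot Q M u w) : HasRoot Q M (g u) (g w) := by
  obtain ⟨k, hk, e⟩ := h
  refine ⟨g * k * g⁻¹, M.mul_mem (M.mul_mem hg hk) (M.inv_mem hg), fun x => ?_⟩
  obtain ⟨y, rfl⟩ := g.surjective x
  rw [LinearEquiv.mul_apply, LinearEquiv.mul_apply, show g⁻¹ (g y) = y from g.symm_apply_apply y, e,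
    Classical.isometry_polar (hiso g hg), Classical.isometry_polar (hiso g hg), hiso g hg w]
  simp only [map_sub, map_add, map_smul]

theorem hasRoot_zero_left (w : Vs) : HasRoot Q M 0 w :=
  ⟨1, M.one_mem, fun x => by simp⟩

theorem hasRoot_zero_right {u : Vs} : HasRoot Q M u 0 :=
  ⟨1, M.one_mem, fun x => by simp⟩

namespace OData

variable [Finite F] (D : OData Q K P)
include D

/-- Conjugating a root element with rational centre by two rational root elements. -/
theorem spread_perp (hO : Over D M) (hn : 13 ≤ Fintype.card ι) {t : Ks} {z : Vs} (ht : D.rQ t = 0)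
    (htz : polar Q (ρR t) z = 0) (h : HasRoot Q M (ρR t) z) {a c : Ks} (ha : D.rQ a = 0) (hc : D.rQ c = 0)
    (hat : D.rp a t = 0) (hct : D.rp c t = 0) (hac : D.rp a c = 0) :
    HasRoot Q M (ρR t) (polar Q z (ρR a) • ρR c) := by
  obtain ⟨b, f, hb, hf, hbb, hfb⟩ := D.exists_hyp_perp ![t, a, c] (by omega)
  obtain ⟨x, hx⟩ := D.exists_sing_adjust hbb (f := (D.rp f b)⁻¹ • f)
    (by rw [D.rp_smul_left, inv_mul_cancel₀ hfb]; exact one_ne_zero)
  set a' := (D.rp f b)⁻¹ • f + x • b with ha'
  have hbt : D.rp b t = 0 := hb 0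
  have hba : D.rp b a = 0 := hb 1
  have hbc : D.rp b c = 0 := hb 2
  have ha't : D.rp a' t = 0 := by
    rw [ha', D.rp_add_left, D.rp_smul_left, D.rp_smul_left, show D.rp f t = 0 from hf 0, hbt]; ring
  have ha'a : D.rp a' a = 0 := by
    rw [ha', D.rp_add_left, D.rp_smul_left, D.rp_smul_left, show D.rp f a = 0 from hf 1, hba]; ring
  have ha'c : D.rp a' c = 0 := by
    rw [ha', D.rp_add_left, D.rp_smul_left, D.rp_smul_left, show D.rp f c = 0 from hf 2, hbc]; ring
  have ha'b : D.rp b a' = 1 := by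
    rw [D.rp_comm, ha', D.rp_add_left, D.rp_smul_left, D.rp_smul_left, inv_mul_cancel₀ hfb, D.rp_self_zero hbb,
      mul_zero, add_zero]
  have htt : Q (ρR t) = 0 := D.Q_rat_zero ht
  have pt : ∀ u : Ks, D.rp u t = 0 → polar Q (ρR u) (ρR t) = 0 := fun u hu => D.polar_rat_zero hu
  have pt' : ∀ u : Ks, D.rp u t = 0 → polar Q (ρR t) (ρR u) = 0 := fun u hu => by
    rw [polar_comm]; exact D.polar_rat_zero hu
  -- conjugate and cancel
  obtain ⟨g, hg, eg⟩ := hO.rat a b ha hbb (by rw [D.rp_comm]; exact hba)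
  have e1 : g (ρR t) = ρR t := by
    rw [eg, pt' a hat, pt' b hbt]; simp
  set p := polar Q z (ρR b) • ρR a - polar Q z (ρR a) • ρR b with hp
  have e2 : g z = z + p := by
    rw [eg, D.Q_rat_zero hbb, hp]; module
  have h1 := hasRoot_conj hO.iso hg h
  rw [e1, e2] at h1
  have htp : polar Q (ρR t) p = 0 := by
    rw [hp, polar_sub_right, polar_smul_right, polar_smul_right, pt' a hat, pt' b hbt]; simp
  have h2 := hasRoot_mul htt (by rw [polar_add_right, htz, htp, add_zero]) (by rw [polar_neg_right, htz, neg_zero])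
    h1 (hasRoot_neg htt htz h)
  rw [add_neg_cancel_comm] at h2
  obtain ⟨k, hk, ek⟩ := hO.rat a' c hx hc ha'c
  have e3 : k (ρR t) = ρR t := by
    rw [ek, pt' a' ha't, pt' c hct]; simp
  have e4 : k p = p + polar Q z (ρR a) • ρR c := by
    rw [ek, D.Q_rat_zero hc, hp]
    simp only [polar_sub_left, polar_smul_left, D.polar_rat_zero hac, D.polar_rat_zero hbc,
      D.polar_rat_one ha'b, polar_comm (⇑Q) (ρR a) (ρR a'), D.polar_rat_zero ha'a, smul_eq_mul]
    match_scalars <;> ring
  have h3 := hasRoot_conj hO.iso hk h2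
  rw [e3, e4] at h3
  have hzc : polar Q (ρR t) (polar Q z (ρR a) • ρR c) = 0 := by rw [polar_smul_right, pt' c hct, smul_zero]
  have h4 := hasRoot_mul htt (by rw [polar_add_right, htp, hzc, add_zero])
    (by rw [polar_neg_right, htp, neg_zero]) h3 (hasRoot_neg htt htp h2)
  rwa [add_neg_cancel_comm] at h4

theorem spread (hO : Over D M) (hn : 13 ≤ Fintype.card ι) {t : Ks} {z : Vs} (ht : D.rQ t = 0)
    (htz : polar Q (ρR t) z = 0) (h : HasRoot Q M (ρR t) z) {a c : Ks} (ha : D.rQ a = 0) (hc : D.rQ c = 0)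
    (hat : D.rp a t = 0) (hct : D.rp c t = 0) : HasRoot Q M (ρR t) (polar Q z (ρR a) • ρR c) := by
  obtain ⟨d, hd, hdd, hdS⟩ := D.exists_sing_perp_notMem ![t, a, c] (Submodule.span K (Set.range ![t, c]))
    (by omega) (by have := OData.finrank_span_fin_le (K := K) ![t, c]; omega)
  have hdt : D.rp d t = 0 := hd 0
  have hdc : D.rp d c = 0 := hd 2
  have h1 := D.spread_perp hO hn ht htz h ha hdd hat hdt (by rw [D.rp_comm]; exact hd 1)
  obtain ⟨r, hr⟩ : ∃ r, D.rp r d = 1 ∧ D.rp r t = 0 ∧ D.rp r c = 0 := by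
    by_cases hli : LinearIndependent K ![t, c]
    · have hd' : d ∉ Submodule.span K {t, c} := by
        rwa [Matrix.range_cons, Matrix.range_cons, Matrix.range_empty, Set.union_empty, ← Set.insert_eq] at hdS
      obtain ⟨r, hr⟩ := D.exists_dual (OData.indep_three hli hd') ![1, 0, 0]
      exact ⟨r, hr 0, hr 1, hr 2⟩
    · by_cases ht0 : t = 0
      · obtain ⟨r, hr⟩ : ∃ r, D.rp r d = 1 ∧ D.rp r c = 0 := by
          by_cases hc0 : c = 0
          · obtain ⟨r, hr⟩ := D.exists_dual (u := ![d])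
              (linearIndependent_unique_iff.mpr (by simpa using OData.ne_zero_of_notMem hdS)) ![1]
            exact ⟨r, hr 0, by rw [hc0, D.rp_comm, D.rp_zero_left]⟩
          · obtain ⟨r, hr⟩ := D.exists_dual (OData.indep_two hc0 fun hm => hdS (Submodule.span_mono (by simp) hm))
              ![0, 1]
            exact ⟨r, hr 1, hr 0⟩
        exact ⟨r, hr.1, by rw [ht0, D.rp_comm, D.rp_zero_left], hr.2⟩
      · obtain ⟨r, hr⟩ := D.exists_dual (OData.indep_two ht0 fun hm => hdS (Submodule.span_mono (by simp) hm))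
          ![0, 1]
        obtain ⟨k, hk⟩ : ∃ k : K, k • t = c := by
          rw [LinearIndependent.pair_iff' ht0] at hli
          push Not at hli
          exact hli
        exact ⟨r, hr 1, hr 0, by rw [← hk, D.rp_smul_right, show D.rp r t = 0 from hr 0, mul_zero]⟩
  obtain ⟨hrd, hrt, hrc⟩ := hr
  obtain ⟨x, hx⟩ := D.exists_sing_adjust hdd (f := r) (by rw [hrd]; exact one_ne_zero)
  have hz' : polar Q (ρR t) (polar Q z (ρR a) • ρR d) = 0 := by
    rw [polar_smul_right, polar_comm (⇑Q) (ρR t) (ρR d), D.polar_rat_zero hdt, smul_zero]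
  have h2 := D.spread_perp hO hn ht hz' h1 hx hc
    (by rw [D.rp_add_left, D.rp_smul_left, hrt, hdt, mul_zero, add_zero]) hct
    (by rw [D.rp_add_left, D.rp_smul_left, hrc, hdc, mul_zero, add_zero])
  rwa [polar_smul_left, polar_comm (⇑Q) (ρR d) (ρR (r + x • d)), D.polar_rat_one (show D.rp (r + x • d) d = 1 by
    rw [D.rp_add_left, D.rp_smul_left, hrd, D.rp_self_zero hdd, mul_zero, add_zero]), smul_eq_mul, mul_one] at h2

/-- One rational root element with scalar `l` yields all of them. -/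
theorem good_of_pair (hO : Over D M) (hn : 13 ≤ Fintype.card ι) {t b : Ks} (hli : LinearIndependent K ![t, b])
    (ht : D.rQ t = 0) (hb : D.rQ b = 0) (htb : D.rp t b = 0) {l : F}
    (h : HasRoot Q M (ρR t) (l • ρR b)) : Good D M l := by
  have step : ∀ {t b : Ks}, LinearIndependent K ![t, b] → D.rQ t = 0 → D.rQ b = 0 → D.rp t b = 0 →
      HasRoot Q M (ρR t) (l • ρR b) → ∀ c, D.rQ c = 0 → D.rp c t = 0 → HasRoot Q M (ρR t) (l • ρR c) := by
    intro t b hli ht hb htb h c hc hct
    obtain ⟨a, ha, haj⟩ := D.exists_sing_dual hli (fun i => by fin_cases i <;> assumption)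
      (fun i j => by
        fin_cases i <;> fin_cases j <;> simp [D.rp_self_zero ht, D.rp_self_zero hb, htb, D.rp_comm b t])
      ![0, 1] 1 one_ne_zero
    have h1 := D.spread hO hn ht (by rw [polar_smul_right, D.polar_rat_zero htb, smul_zero]) h ha hc (haj 0) hct
    rwa [polar_smul_left, polar_comm (⇑Q) (ρR b) (ρR a), D.polar_rat_one (show D.rp a b = 1 from haj 1), smul_eq_mul, mul_one] at h1
  intro a c ha hc hac
  by_cases ha0 : a = 0
  · rw [ha0, ratVec_zero]; exact hasRoot_zero_left _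
  obtain ⟨d, hd, hdd, hdS⟩ := D.exists_sing_perp_notMem ![t, a] (Submodule.span K (Set.range ![t, a])) (by omega)
    (by have := OData.finrank_span_fin_le (K := K) ![t, a]; omega)
  have hdt : D.rp d t = 0 := hd 0
  have hda : D.rp d a = 0 := hd 1
  have ht0 : t ≠ 0 := fun e => by
    rw [LinearIndependent.pair_iff] at hli
    exact one_ne_zero (hli 1 0 (by simp [e])).1
  have hd0 : d ≠ 0 := OData.ne_zero_of_notMem hdS
  have hdt' : t ∉ Submodule.span K {d} := fun hm => by
    obtain ⟨k, hk⟩ := Submodule.mem_span_singleton.mp hm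
    have hk0 : k ≠ 0 := fun e => ht0 (by rw [← hk, e, zero_smul])
    exact hdS (by
      rw [← inv_smul_smul₀ hk0 d, hk]
      exact Submodule.smul_mem _ _ (Submodule.subset_span (by simp)))
  have hda' : d ∉ Submodule.span K {a} := fun hm => hdS (Submodule.span_mono (by simp) hm)
  have hda'' : a ∉ Submodule.span K {d} := fun hm => by
    obtain ⟨k, hk⟩ := Submodule.mem_span_singleton.mp hm
    have hk0 : k ≠ 0 := fun e => ha0 (by rw [← hk, e, zero_smul])
    exact hdS (by
      rw [← inv_smul_smul₀ hk0 d, hk]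
      exact Submodule.smul_mem _ _ (Submodule.subset_span (by simp)))
  have flip : ∀ {u v : Ks}, D.rQ u = 0 → D.rQ v = 0 → HasRoot Q M (ρR u) (l • ρR v) →
      HasRoot Q M (ρR v) (l • ρR (-u)) := by
    intro u v hu hv h
    have h1 := hasRoot_swap (D.Q_rat_zero hu)
      (by rw [QuadraticMap.map_smul, D.Q_rat_zero hv, smul_zero]) h
    rw [hasRoot_smul (by rw [QuadraticMap.map_neg, D.Q_rat_zero hu])] at h1
    rwa [← neg_one_smul K u, ratVec_smul, show ((-1 : K) : F) = -1 by simp, neg_one_smul]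
  have h1 := flip ht hdd (step hli ht hb htb h d hdd hdt)
  have hnt : D.rQ (-t) = 0 := by rw [QuadraticMap.map_neg, ht]
  have h2 := flip hdd ha (step (b := -t) (OData.indep_two hd0 fun hm => hdt' (by simpa using hm)) hdd hnt
    (by rw [rp, polar_neg_right]; simpa [rp] using hdt) h1 a ha (by rw [D.rp_comm]; exact hda))
  refine step (b := -d) (OData.indep_two ha0 fun hm => hda' (by simpa using hm)) ha
    (by rw [QuadraticMap.map_neg, hdd]) ?_ h2 c hc (by rw [D.rp_comm]; exact hac)
  rw [rp, polar_neg_right]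
  simpa [rp] using (D.rp_comm a d).trans hda

theorem good_coe (hO : Over D M) (k : K) : Good D M (k : F) := by
  intro a b ha hb hab
  have h := hO.rat a (k • b) ha (by rw [D.rQ_smul, hb, mul_zero]) (by rw [D.rp_smul_right, hab, mul_zero])
  rwa [ratVec_smul] at h

theorem good_add {c d : F} (hc : Good D M c) (hd : Good D M d) : Good D M (c + d) := by
  intro a b ha hb hab
  rw [add_smul]
  exact hasRoot_mul (D.Q_rat_zero ha) (by rw [polar_smul_right, D.polar_rat_zero hab, smul_zero])
    (by rw [polar_smul_right, D.polar_rat_zero hab, smul_zero]) (hc a b ha hb hab) (hd a b ha hb hab)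

theorem good_mul (hO : Over D M) (hn : 13 ≤ Fintype.card ι) {c d : F} (hc : Good D M c) (hd : Good D M d) :
    Good D M (c * d) := by
  obtain ⟨a, -, ha, haS⟩ := D.exists_sing_perp_notMem (![] : Fin 0 → Ks) ⊥ (by omega)
    (by rw [finrank_bot]; omega)
  have ha0 : a ≠ 0 := OData.ne_zero_of_notMem haS
  obtain ⟨t, hta, ht, htS⟩ := D.exists_sing_perp_notMem ![a] (Submodule.span K {a}) (by omega)
    (by rw [finrank_span_singleton ha0]; omega)
  have hli := OData.indep_two ha0 htS
  have hta' : D.rp t a = 0 := hta 0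
  obtain ⟨t', ht', ht'j⟩ := D.exists_sing_dual hli (fun i => by fin_cases i <;> assumption)
    (fun i j => by
      fin_cases i <;> fin_cases j <;> simp [D.rp_self_zero ha, D.rp_self_zero ht, hta', D.rp_comm a t])
    ![0, 1] 1 one_ne_zero
  have ht'a : D.rp t' a = 0 := ht'j 0
  have ht't : D.rp t' t = 1 := ht'j 1
  obtain ⟨b', hb', hbb, hbS⟩ := D.exists_sing_perp_notMem ![a, t, t'] (Submodule.span K (Set.range ![a, t']))
    (by omega) (by have := OData.finrank_span_fin_le (K := K) ![a, t']; omega)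
  have hba : D.rp b' a = 0 := hb' 0
  have hbt : D.rp b' t = 0 := hb' 1
  have hbt' : D.rp b' t' = 0 := hb' 2
  obtain ⟨X, hX, eX⟩ := hc a t ha ht (by rw [D.rp_comm]; exact hta')
  have e1 : X (ρR t') = ρR t' + c • ρR a := by
    rw [eX, polar_smul_right, D.polar_rat_one ht't, D.polar_rat_zero ht'a]; simp
  have e2 : X (ρR b') = ρR b' := by
    rw [eX, polar_smul_right, D.polar_rat_zero hbt, D.polar_rat_zero hba]; simp
  have h0 := hd t' b' ht' hbb (by rw [D.rp_comm]; exact hbt')
  have h1 := hasRoot_conj hO.iso hX h0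
  rw [map_smul, e1, e2] at h1
  have zb : Q (ρR b') = 0 := D.Q_rat_zero hbb
  have za : Q (ρR a) = 0 := D.Q_rat_zero ha
  have zt : Q (ρR t') = 0 := D.Q_rat_zero ht'
  have pat : polar Q (ρR t') (ρR a) = 0 := D.polar_rat_zero ht'a
  have pb1 : polar Q (ρR b') (ρR t') = 0 := D.polar_rat_zero hbt'
  have pb2 : polar Q (ρR b') (ρR a) = 0 := D.polar_rat_zero hba
  have zs : Q (ρR t' + c • ρR a) = 0 := by
    rw [QuadraticMap.map_add (⇑Q), QuadraticMap.map_smul, za, zt, polar_smul_right, pat]; simp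
  have zdb : Q (d • ρR b') = 0 := by rw [QuadraticMap.map_smul, zb, smul_zero]
  have h2 := hasRoot_swap zs zdb h1
  rw [hasRoot_smul (by rw [QuadraticMap.map_neg, zs])] at h2
  have h3 := hasRoot_swap zt zdb h0
  rw [hasRoot_smul (by rw [QuadraticMap.map_neg, zt])] at h3
  have h4 := hasRoot_mul zb (by simp [polar_smul_right, polar_neg_right, polar_add_right, pb1, pb2])
    (by simp [polar_smul_right, polar_neg_right, pb1]) h2
    (hasRoot_neg zb (by simp [polar_smul_right, polar_neg_right, pb1]) h3)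
  rw [show d • -(ρR t' + c • ρR a) + -(d • -ρR t') = (-(c * d)) • ρR a by module] at h4
  have h5 := hasRoot_swap zb (by rw [QuadraticMap.map_smul, za, smul_zero]) h4
  rw [hasRoot_smul (by rw [QuadraticMap.map_neg, zb]), neg_smul_neg] at h5
  exact D.good_of_pair hO hn (OData.indep_two ha0 fun h => hbS (Submodule.span_mono (by simp) h)) ha hbb
    (by rw [D.rp_comm]; exact hba) h5

theorem good_all (hO : Over D M) (hn : 13 ≤ Fintype.card ι) (r : ℕ) (hr : r.Prime)
    (hcard : Nat.card F = Nat.card K ^ r) {c : F} (hc : c ∉ K) (hgood : Good D M c) (x : F) : Good D M x := by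
  let S : Subalgebra K F :=
    { carrier := {x | Good D M x}
      mul_mem' := fun ha hb => D.good_mul hO hn ha hb
      one_mem' := by simpa using D.good_coe hO 1
      add_mem' := fun ha hb => D.good_add ha hb
      zero_mem' := by simpa using D.good_coe hO 0
      algebraMap_mem' := fun a => D.good_coe hO a }
  haveI : Module.Finite K F := Module.Finite.of_finite
  have hdim : Module.finrank K F = r := by
    have h := Module.natCard_eq_pow_finrank (K := K) (V := F)
    rw [hcard] at h
    exact (Nat.pow_right_injective Finite.one_lt_card h).symm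
  have h := Subalgebra.isSimpleOrder_of_finrank_prime K F (hdim ▸ hr)
  rcases h.eq_bot_or_eq_top S with e | e
  · exfalso
    have hcS : c ∈ (⊥ : Subalgebra K F) := e ▸ (hgood : c ∈ S)
    obtain ⟨a, ha⟩ := Algebra.mem_bot.mp hcS
    exact hc (ha ▸ a.2)
  · exact (e ▸ Algebra.mem_top : x ∈ S)

end OData

end Cfsg.Agent.Lib.OrthSubfield
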